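import Groth.Agent.FlatMor.K263.RFGauss
import Groth.Agent.S0253
import Mathlib.RingTheory.ZariskisMainTheorem
import Mathlib.RingTheory.NoetherNormalization
import Mathlib.RingTheory.IntegralClosure.GoingDown
import Mathlib.Algebra.MvPolynomial.Funext

/-!
# Points of algebras of finite type over valuation rings with algebraically closed fraction field

`K380.ValPt.exists_section`: let `R` be a valuation ring with algebraically closed fraction field, `B` a domain of
finite type over `R` containing `R`, with a prime over the maximal ideal of `R`.  For every `b ≠ 0` in `B` there is an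
`R`-algebra map `B → R` with `b ↦ b' ≠ 0`.
-/

set_option autoImplicit false
universe u v

open IsLocalRing

namespace K380.ValPt

section Alg

variable (R : Type u) [CommRing R] [IsDomain R] [ValuationRing R]

theorem isAlgClosed_residueField [IsAlgClosed (FractionRing R)] (h : maximalIdeal R ≠ ⊥) : IsAlgClosed (ResidueField R) := by
  have : IsIntegrallyClosed R := K263.RFGauss.isIntegrallyClosed_of_valuationRing R
  have h1 := Groth.Agent.S0253.result R (IsLocalRing.maximalIdeal R) h
  have h2 := Ideal.bijective_algebraMap_quotient_residueField (IsLocalRing.maximalIdeal R)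
  let e2 : (R ⧸ IsLocalRing.maximalIdeal R) ≃+* (IsLocalRing.maximalIdeal R).ResidueField :=
    RingEquiv.ofBijective _ h2
  exact IsAlgClosed.of_ringEquiv _ (IsLocalRing.ResidueField R) e2.symm

theorem infinite_maximalIdeal (h : maximalIdeal R ≠ ⊥) : (maximalIdeal R : Set R).Infinite := by
  obtain ⟨t, ht, ht0⟩ := Submodule.exists_mem_ne_zero_of_ne_bot h
  have h1 : Function.Injective (fun n : ℕ => t ^ (n + 1)) := by
    intro m n hmn
    have := (pow_inj_of_not_isUnit ((mem_maximalIdeal t).1 ht) ht0).1 hmn
    omega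
  refine (Set.infinite_range_of_injective h1).mono ?_
  rintro _ ⟨n, rfl⟩
  exact Ideal.pow_mem_of_mem _ ht _ (Nat.succ_pos n)

variable {R}

/-- Avoiding a polynomial in a residue class. -/
theorem exists_eval_ne_zero (h : maximalIdeal R ≠ ⊥) {σ : Type v} [Finite σ] (P : MvPolynomial σ R) (hP : P ≠ 0)
    (a₀ : σ → R) : ∃ a : σ → R, (∀ i, a i - a₀ i ∈ maximalIdeal R) ∧ MvPolynomial.eval a P ≠ 0 := by
  by_contra hcon
  push Not at hcon
  apply hP
  have hinf : ∀ i, Set.Infinite ((fun t => a₀ i + t) '' (maximalIdeal R : Set R)) := fun i =>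
    (infinite_maximalIdeal R h).image (add_right_injective (a₀ i)).injOn
  refine MvPolynomial.funext_set (fun i => (fun t => a₀ i + t) '' (maximalIdeal R : Set R)) hinf fun x hx => ?_
  rw [map_zero]
  refine hcon x fun i => ?_
  obtain ⟨t, ht, hti⟩ := hx i (Set.mem_univ i)
  rw [← hti]
  simpa using ht

end Alg

/-- Quasi-finiteness at primes over an ideal modulo which the algebra is finite. -/
theorem weaklyQuasiFiniteAt_of_finite {A B : Type u} [CommRing A] [CommRing B] [Algebra A B] (I : Ideal A)
    (hfin : Module.Finite A (B ⧸ I.map (algebraMap A B))) (Q : Ideal B) [Q.IsPrime]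
    (hQ : I ≤ Q.comap (algebraMap A B)) : Algebra.WeaklyQuasiFiniteAt A Q := by
  rw [Algebra.weaklyQuasiFiniteAt_iff]
  let T := Localization.AtPrime Q ⧸ (Q.under A).map (algebraMap A (Localization.AtPrime Q))
  let g : B →ₐ[A] T := (Ideal.Quotient.mkₐ A _).comp (IsScalarTower.toAlgHom A B (Localization.AtPrime Q))
  have hg : ∀ a : B, a ∈ I.map (algebraMap A B) → g a = 0 := by
    intro a ha
    have h1 : I.map (algebraMap A B) ≤ RingHom.ker (g : B →+* T) := by
      rw [Ideal.map_le_iff_le_comap]
      intro x hx
      rw [Ideal.mem_comap, RingHom.mem_ker]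
      have h2 : (g : B →+* T) (algebraMap A B x) = Ideal.Quotient.mk _ (algebraMap A (Localization.AtPrime Q) x) := by
        change Ideal.Quotient.mk _ (algebraMap B (Localization.AtPrime Q) (algebraMap A B x)) = _
        rw [← IsScalarTower.algebraMap_apply]
      rw [h2, Ideal.Quotient.eq_zero_iff_mem]
      exact Ideal.mem_map_of_mem _ (hQ hx)
    exact h1 ha
  let f : (B ⧸ I.map (algebraMap A B)) →ₐ[A] T := Ideal.Quotient.liftₐ _ g hg
  refine Algebra.QuasiFinite.of_forall_exists_mul_mem_range f fun x => ?_
  obtain ⟨y, rfl⟩ := Ideal.Quotient.mk_surjective x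
  obtain ⟨b, s, rfl⟩ := IsLocalization.exists_mk'_eq Q.primeCompl y
  refine ⟨Ideal.Quotient.mk _ s.1, ?_, Ideal.Quotient.mk _ b, ?_⟩
  · change IsUnit (Ideal.Quotient.mk _ (algebraMap B (Localization.AtPrime Q) s.1))
    exact (IsLocalization.map_units (Localization.AtPrime Q) s).map (Ideal.Quotient.mk _)
  · change Ideal.Quotient.mk _ (algebraMap B (Localization.AtPrime Q) b) =
      Ideal.Quotient.mk _ (IsLocalization.mk' (Localization.AtPrime Q) b s) *
        Ideal.Quotient.mk _ (algebraMap B (Localization.AtPrime Q) s.1)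
    rw [← map_mul, IsLocalization.mk'_spec]

section Section

variable {R : Type u} [CommRing R] [IsDomain R] [ValuationRing R]

/-- Integral extensions of `R` which are domains are trivial. -/
theorem exists_hom_of_isIntegral [IsAlgClosed (FractionRing R)] {D : Type u} [CommRing D] [IsDomain D] [Algebra R D]
    [Algebra.IsIntegral R D] (hinj : Function.Injective (algebraMap R D)) : Function.Surjective (algebraMap R D) := by
  have : IsIntegrallyClosed R := K263.RFGauss.isIntegrallyClosed_of_valuationRing R
  let K := FractionRing R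
  let L := FractionRing D
  have hRL : Function.Injective (algebraMap R L) := by
    rw [IsScalarTower.algebraMap_eq R D L]
    exact (IsFractionRing.injective D L).comp hinj
  let _ : Algebra K L := (IsFractionRing.lift (A := R) (K := K) hRL).toAlgebra
  have : IsScalarTower R K L := IsScalarTower.of_algebraMap_eq fun x => by
    exact (IsFractionRing.lift_algebraMap hRL x).symm
  have halg : Algebra.IsAlgebraic K L := by
    have : FaithfulSMul R D := (faithfulSMul_iff_algebraMap_injective R D).2 hinj
    have h1 : Algebra.IsAlgebraic R D := inferInstance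
    have hT : Module.IsTorsionFree R L := by
      rw [Module.isTorsionFree_iff_algebraMap_injective]
      exact hRL
    have h2 : Algebra.IsAlgebraic R L := (IsFractionRing.isAlgebraic_iff' R D L).1 h1
    exact (IsFractionRing.comap_isAlgebraic_iff (A := R) (K := K)).1 h2
  have hbij : Function.Bijective (algebraMap K L) := IsAlgClosed.algebraMap_bijective_of_isIntegral
  intro d
  obtain ⟨z, hz⟩ := hbij.2 (algebraMap D L d)
  have hzint : IsIntegral R z := by
    have h1 : IsIntegral R (algebraMap K L z) := by
      rw [hz]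
      exact (Algebra.IsIntegral.isIntegral (R := R) d).algebraMap
    exact (isIntegral_algebraMap_iff hbij.1).1 h1
  obtain ⟨r, hr⟩ := IsIntegrallyClosed.isIntegral_iff.1 hzint
  refine ⟨r, IsFractionRing.injective D L ?_⟩
  rw [← hz, ← hr, ← IsScalarTower.algebraMap_apply, ← IsScalarTower.algebraMap_apply]

variable {B : Type u} [CommRing B] [IsDomain B] [Algebra R B]

/-- Polynomials with coefficients in a valuation ring: independence modulo the maximal ideal implies independence. -/
theorem injective_aeval (hinj : Function.Injective (algebraMap R B)) {n : ℕ} (x : Fin n → B)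
    (g : MvPolynomial (Fin n) (ResidueField R) →+* B ⧸ (maximalIdeal R).map (algebraMap R B))
    (hg : Function.Injective g)
    (hx : ∀ P : MvPolynomial (Fin n) R, g (MvPolynomial.map (residue R) P) =
      Ideal.Quotient.mk _ (MvPolynomial.aeval x P)) :
    Function.Injective (MvPolynomial.aeval x : MvPolynomial (Fin n) R →ₐ[R] B) := by
  rw [injective_iff_map_eq_zero]
  intro P hP
  by_contra hne
  obtain ⟨a, G, s, ha, rfl, hs, -⟩ := K263.RFGauss.exists_content P hne
  rw [map_mul, ← MvPolynomial.algebraMap_eq, AlgHom.commutes] at hP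
  rcases mul_eq_zero.1 hP with h | h
  · exact ha (hinj (h.trans (map_zero _).symm))
  · have h1 := hx G
    rw [h, map_zero] at h1
    have h2 : MvPolynomial.map (residue R) G = 0 := hg (h1.trans (map_zero g).symm)
    exact (K263.RFGauss.map_residue_ne_zero_iff.2 ⟨s, hs.symm ▸ isUnit_one⟩) h2

/-- The second half of the proof: Zariski's main theorem and going down. -/
theorem exists_section_aux [IsAlgClosed (FractionRing R)] (hR : maximalIdeal R ≠ ⊥) {n : ℕ}
    [Algebra (MvPolynomial (Fin n) R) B]
    [IsScalarTower R (MvPolynomial (Fin n) R) B] [Algebra.FiniteType (MvPolynomial (Fin n) R) B]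
    (hinj : Function.Injective (algebraMap (MvPolynomial (Fin n) R) B)) (Q : Ideal B) [Q.IsPrime]
    [Algebra.WeaklyQuasiFiniteAt (MvPolynomial (Fin n) R) Q]
    (hQ : Q.comap (algebraMap R B) = maximalIdeal R) (a₀ : Fin n → R)
    (ha₀ : ∀ i, algebraMap (MvPolynomial (Fin n) R) B (MvPolynomial.X i) - algebraMap R B (a₀ i) ∈ Q)
    (b : B) (hb : b ≠ 0) :
    ∃ φ : B →ₐ[R] R, φ b ≠ 0 ∧ (maximalIdeal R).comap φ = Q := by
  classical
  have hRic : IsIntegrallyClosed R := K263.RFGauss.isIntegrallyClosed_of_valuationRing R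
  have hAic : IsIntegrallyClosed (MvPolynomial (Fin n) R) := K263.RFGauss.isIntegrallyClosed_mvPolynomial R (Fin n)
  obtain ⟨D, hDfg, r, hr, hbij⟩ :=
    Algebra.QuasiFiniteAt.exists_fg_and_exists_notMem_and_awayMap_bijective (R := MvPolynomial (Fin n) R) Q
  have hDfin : Module.Finite (MvPolynomial (Fin n) R) D := ⟨(Submodule.fg_top _).mpr hDfg⟩
  have hDfs : FaithfulSMul (MvPolynomial (Fin n) R) D := by
    rw [faithfulSMul_iff_algebraMap_injective]
    intro x y hxy
    exact hinj (congrArg Subtype.val hxy)
  have hr0 : (r : B) ≠ 0 := fun h => hr (h ▸ Q.zero_mem)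
  -- clearing denominators
  have hclear : ∀ z : B, ∃ (k : ℕ) (d : D), (r : B) ^ k * z = d := by
    intro z
    obtain ⟨w, hw⟩ := hbij.2 (algebraMap B (Localization.Away (D.val.toRingHom r)) z)
    obtain ⟨d, ⟨_, k, rfl⟩, rfl⟩ := IsLocalization.exists_mk'_eq (Submonoid.powers r) w
    refine ⟨k, d, ?_⟩
    have h1 : Localization.awayMap D.val.toRingHom r (IsLocalization.mk' (Localization.Away r) d
        (⟨r ^ k, k, rfl⟩ : Submonoid.powers r)) * algebraMap B (Localization.Away (D.val.toRingHom r)) (r : B) ^ k =
        algebraMap B (Localization.Away (D.val.toRingHom r)) (d : B) := by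
      have h2 : algebraMap B (Localization.Away (D.val.toRingHom r)) (r : B) ^ k =
          Localization.awayMap D.val.toRingHom r (algebraMap D (Localization.Away r) (r ^ k)) := by
        rw [Localization.awayMap, IsLocalization.Away.map, IsLocalization.map_eq, map_pow, map_pow]
        rfl
      rw [h2, ← map_mul, IsLocalization.mk'_spec, Localization.awayMap, IsLocalization.Away.map,
        IsLocalization.map_eq]
      rfl
    rw [hw, ← map_pow, ← map_mul] at h1
    have h3 : Function.Injective (algebraMap B (Localization.Away (D.val.toRingHom r))) :=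
      IsLocalization.injective (M := Submonoid.powers (D.val.toRingHom r)) _
        (powers_le_nonZeroDivisors_of_noZeroDivisors hr0)
    rw [mul_comm]
    exact h3 h1
  obtain ⟨k₀, d₀, hd₀⟩ := hclear b
  have hd₀0 : d₀ ≠ 0 := by
    rintro rfl
    exact mul_ne_zero (pow_ne_zero _ hr0) hb hd₀
  obtain ⟨c₀, hc₀, hdvd⟩ := (Algebra.IsIntegral.isIntegral (R := MvPolynomial (Fin n) R) d₀).isAlgebraic.exists_nonzero_dvd
    (mem_nonZeroDivisors_of_ne_zero hd₀0)
  obtain ⟨a, haa, hac⟩ := exists_eval_ne_zero hR c₀ hc₀ a₀
  have haQ : ∀ i, algebraMap (MvPolynomial (Fin n) R) B (MvPolynomial.X i) - algebraMap R B (a i) ∈ Q := by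
    intro i
    have h1 : algebraMap R B (a i - a₀ i) ∈ Q := by
      have h2 := haa i
      rw [← hQ] at h2
      exact h2
    rw [map_sub] at h1
    have h3 := Q.sub_mem (ha₀ i) h1
    rwa [sub_sub, add_sub_cancel] at h3
  -- the point `a` of affine space lies under `Q`
  have heval : ∀ F : MvPolynomial (Fin n) R,
      algebraMap (MvPolynomial (Fin n) R) B F - algebraMap R B (MvPolynomial.eval a F) ∈ Q := by
    intro F
    rw [← Ideal.Quotient.eq]
    have h1 : (Ideal.Quotient.mk Q).comp (algebraMap (MvPolynomial (Fin n) R) B) =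
        ((Ideal.Quotient.mk Q).comp (algebraMap R B)).comp (MvPolynomial.eval a) := by
      apply MvPolynomial.ringHom_ext
      · intro t
        simp only [RingHom.comp_apply, MvPolynomial.eval_C]
        rw [← MvPolynomial.algebraMap_eq, ← IsScalarTower.algebraMap_apply]
      · intro i
        simp only [RingHom.comp_apply, MvPolynomial.eval_X]
        exact Ideal.Quotient.eq.2 (haQ i)
    exact RingHom.congr_fun h1 F
  let pa : Ideal (MvPolynomial (Fin n) R) := RingHom.ker (MvPolynomial.eval a)
  have hpa : pa.IsPrime := RingHom.ker_isPrime _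
  let Q' : Ideal D := Q.comap (algebraMap D B)
  have hQ' : Q'.IsPrime := Ideal.comap_isPrime _ _
  have hle : pa ≤ Q'.under (MvPolynomial (Fin n) R) := by
    intro F hF
    change algebraMap (MvPolynomial (Fin n) R) B F ∈ Q
    have h1 := heval F
    rw [(RingHom.mem_ker).1 hF, map_zero, sub_zero] at h1
    exact h1
  obtain ⟨P, hPQ, hP, hPa⟩ := Ideal.exists_ideal_le_liesOver_of_le (R := MvPolynomial (Fin n) R) Q' hle
  have hPa' : ∀ F : MvPolynomial (Fin n) R, algebraMap (MvPolynomial (Fin n) R) D F ∈ P ↔ MvPolynomial.eval a F = 0 := by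
    intro F
    have h1 : F ∈ P.under (MvPolynomial (Fin n) R) ↔ F ∈ pa := by rw [← hPa.over]
    exact h1
  have hkey : ∀ F : MvPolynomial (Fin n) R, algebraMap (MvPolynomial (Fin n) R) (D ⧸ P) F =
      algebraMap R (D ⧸ P) (MvPolynomial.eval a F) := by
    intro F
    have h1 : algebraMap (MvPolynomial (Fin n) R) D (F - MvPolynomial.C (MvPolynomial.eval a F)) ∈ P := by
      rw [hPa', map_sub, MvPolynomial.eval_C, sub_self]
    rw [map_sub, ← Ideal.Quotient.eq] at h1
    refine h1.trans ?_
    rw [← MvPolynomial.algebraMap_eq]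
    change Ideal.Quotient.mk P (algebraMap (MvPolynomial (Fin n) R) D (algebraMap R _ _)) = Ideal.Quotient.mk P _
    rw [← IsScalarTower.algebraMap_apply]
  have hinjR : Function.Injective (algebraMap R (D ⧸ P)) := by
    rw [injective_iff_map_eq_zero]
    intro t ht
    have h1 := hkey (MvPolynomial.C t)
    rw [MvPolynomial.eval_C, ht] at h1
    have h2 : algebraMap (MvPolynomial (Fin n) R) D (MvPolynomial.C t) ∈ P := by
      rw [← Ideal.Quotient.eq_zero_iff_mem]
      exact h1
    rw [hPa', MvPolynomial.eval_C] at h2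
    exact h2
  have hint : Algebra.IsIntegral R (D ⧸ P) := by
    refine ⟨fun y => ?_⟩
    obtain ⟨F, hF, hFy⟩ := Algebra.IsIntegral.isIntegral (R := MvPolynomial (Fin n) R) y
    refine ⟨F.map (MvPolynomial.eval a), hF.map _, ?_⟩
    rw [Polynomial.eval₂_map]
    have h1 : (algebraMap R (D ⧸ P)).comp (MvPolynomial.eval a) = algebraMap (MvPolynomial (Fin n) R) (D ⧸ P) :=
      RingHom.ext fun F => (hkey F).symm
    rw [h1]
    exact hFy
  have hsurj := exists_hom_of_isIntegral hinjR
  let e : R ≃ₐ[R] D ⧸ P := AlgEquiv.ofBijective (Algebra.ofId R (D ⧸ P)) ⟨hinjR, hsurj⟩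
  let ψ : D →ₐ[R] R := (e.symm : (D ⧸ P) →ₐ[R] R).comp (Ideal.Quotient.mkₐ R P)
  have hψ : ∀ d : D, d - algebraMap R D (ψ d) ∈ P := by
    intro d
    rw [← Ideal.Quotient.eq]
    have h1 : e (e.symm (Ideal.Quotient.mk P d)) = Ideal.Quotient.mk P d := e.apply_symm_apply _
    exact h1.symm
  have hψQ : ∀ d : D, (d : B) ∈ Q ↔ ψ d ∈ maximalIdeal R := by
    intro d
    have h1 : ((d - algebraMap R D (ψ d) : D) : B) ∈ Q := hPQ (hψ d)
    have h2 : ((d - algebraMap R D (ψ d) : D) : B) = (d : B) - algebraMap R B (ψ d) := rfl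
    rw [h2] at h1
    rw [← hQ, Ideal.mem_comap]
    constructor
    · intro h
      have := Q.sub_mem h h1
      rwa [sub_sub_cancel] at this
    · intro h
      have := Q.add_mem h1 h
      rwa [sub_add_cancel] at this
  have hψr : IsUnit (ψ r) := by
    by_contra h
    exact hr ((hψQ r).2 h)
  let e₁ : Localization.Away r ≃+* Localization.Away (D.val.toRingHom r) := RingEquiv.ofBijective _ hbij
  let lam : Localization.Away r →+* R := IsLocalization.Away.lift (g := (ψ : D →+* R)) r hψr
  let φ₀ : B →+* R := (lam.comp (e₁.symm : _ →+* Localization.Away r)).comp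
    (algebraMap B (Localization.Away (D.val.toRingHom r)))
  have hφ₀ : ∀ d : D, φ₀ (d : B) = ψ d := by
    intro d
    have h1 : e₁.symm (algebraMap B (Localization.Away (D.val.toRingHom r)) (d : B)) =
        algebraMap D (Localization.Away r) d := by
      rw [RingEquiv.symm_apply_eq]
      change _ = Localization.awayMap D.val.toRingHom r (algebraMap D (Localization.Away r) d)
      rw [Localization.awayMap, IsLocalization.Away.map, IsLocalization.map_eq]
      rfl
    change lam (e₁.symm (algebraMap B (Localization.Away (D.val.toRingHom r)) (d : B))) = ψ d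
    rw [h1]
    exact IsLocalization.Away.lift_eq r hψr d
  let φ : B →ₐ[R] R :=
    { φ₀ with
      commutes' := fun t => by
        change φ₀ (algebraMap R B t) = t
        have h1 : algebraMap R B t = ((algebraMap R D t : D) : B) := rfl
        rw [h1, hφ₀]
        exact ψ.commutes t }
  have hφ : ∀ d : D, φ (d : B) = ψ d := hφ₀
  refine ⟨φ, ?_, ?_⟩
  · intro h0
    have h1 : ψ d₀ = 0 := by
      rw [← hφ, ← hd₀, map_mul, h0, mul_zero]
    have h2 : ψ (algebraMap (MvPolynomial (Fin n) R) D c₀) = 0 := by
      obtain ⟨w, hw⟩ := hdvd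
      rw [hw, map_mul, h1, zero_mul]
    have h3 : ψ (algebraMap (MvPolynomial (Fin n) R) D c₀) = MvPolynomial.eval a c₀ := by
      have h4 : e.symm (algebraMap (MvPolynomial (Fin n) R) (D ⧸ P) c₀) = MvPolynomial.eval a c₀ := by
        rw [hkey]
        exact e.symm_apply_apply _
      exact h4
    exact hac (h3.symm.trans h2)
  · ext z
    obtain ⟨k, d, hd⟩ := hclear z
    have h1 : z ∈ Q ↔ (d : B) ∈ Q := by
      rw [← hd]
      constructor
      · exact fun h => Q.mul_mem_left _ h
      · intro h
        rcases (inferInstance : Q.IsPrime).mem_or_mem h with h | h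
        · exact absurd ((inferInstance : Q.IsPrime).mem_of_pow_mem _ h) hr
        · exact h
    rw [h1, hψQ, Ideal.mem_comap, ← hφ, ← hd, map_mul, map_pow, hφ]
    constructor
    · intro h
      exact (maximalIdeal R).mul_mem_left _ h
    · intro h
      exact ((maximalIdeal R).unit_mul_mem_iff_mem (hψr.pow k)).1 h

/-- A section through a closed point of the closed fibre, avoiding `b = 0` generically. -/
theorem exists_section_of_ne_bot [IsAlgClosed (FractionRing R)] [Algebra.FiniteType R B]
    (hR : maximalIdeal R ≠ ⊥) (hinj : Function.Injective (algebraMap R B)) (Q : Ideal B) [hQm : Q.IsMaximal]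
    (hQ : Q.comap (algebraMap R B) = maximalIdeal R) (b : B) (hb : b ≠ 0) :
    ∃ φ : B →ₐ[R] R, φ b ≠ 0 ∧ (maximalIdeal R).comap φ = Q := by
  classical
  have hRic : IsIntegrallyClosed R := K263.RFGauss.isIntegrallyClosed_of_valuationRing R
  have hk : IsAlgClosed (ResidueField R) := isAlgClosed_residueField R hR
  let J : Ideal B := (maximalIdeal R).map (algebraMap R B)
  have hJQ : J ≤ Q := by
    rw [Ideal.map_le_iff_le_comap, hQ]
  let _ : Algebra (ResidueField R) (B ⧸ J) := (Ideal.Quotient.lift (maximalIdeal R)
    ((Ideal.Quotient.mk J).comp (algebraMap R B)) fun a ha => by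
      rw [RingHom.comp_apply, Ideal.Quotient.eq_zero_iff_mem]
      exact Ideal.mem_map_of_mem _ ha).toAlgebra
  have htower : ∀ r : R, algebraMap (ResidueField R) (B ⧸ J) (residue R r) = Ideal.Quotient.mk J (algebraMap R B r) :=
    fun r => rfl
  have : IsScalarTower R (ResidueField R) (B ⧸ J) := IsScalarTower.of_algebraMap_eq fun r => (htower r).symm ▸ rfl
  have : Nontrivial (B ⧸ J) := Ideal.Quotient.nontrivial_iff.2 fun h => hQm.ne_top (top_le_iff.1 (h ▸ hJQ))
  have : Algebra.FiniteType R (B ⧸ J) := inferInstance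
  have : Algebra.FiniteType (ResidueField R) (B ⧸ J) := Algebra.FiniteType.of_restrictScalars_finiteType R _ _
  obtain ⟨n, g, hg, hgf⟩ := exists_finite_inj_algHom_of_fg (ResidueField R) (B ⧸ J)
  choose x hx using fun i => Ideal.Quotient.mk_surjective (g (MvPolynomial.X i))
  let _ : Algebra (MvPolynomial (Fin n) R) B := (MvPolynomial.aeval x : MvPolynomial (Fin n) R →ₐ[R] B).toAlgebra
  have : IsScalarTower R (MvPolynomial (Fin n) R) B := IsScalarTower.of_algebraMap_eq fun r =>
    ((MvPolynomial.aeval x : MvPolynomial (Fin n) R →ₐ[R] B).commutes r).symm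
  have hmap : ∀ P : MvPolynomial (Fin n) R, g (MvPolynomial.map (residue R) P) =
      Ideal.Quotient.mk _ (MvPolynomial.aeval x P) := by
    intro P
    have h1 : (g : MvPolynomial (Fin n) (ResidueField R) →+* B ⧸ J).comp (MvPolynomial.map (residue R)) =
        (Ideal.Quotient.mk J).comp (MvPolynomial.aeval x : MvPolynomial (Fin n) R →ₐ[R] B) := by
      apply MvPolynomial.ringHom_ext
      · intro r
        simp only [RingHom.comp_apply, RingHom.coe_coe, MvPolynomial.map_C, MvPolynomial.aeval_C]
        rw [← MvPolynomial.algebraMap_eq, AlgHom.commutes]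
        exact htower r
      · intro i
        simp only [RingHom.comp_apply, RingHom.coe_coe, MvPolynomial.map_X, MvPolynomial.aeval_X]
        exact (hx i).symm
    exact RingHom.congr_fun h1 P
  have hinjA : Function.Injective (algebraMap (MvPolynomial (Fin n) R) B) := injective_aeval hinj x g hg hmap
  have : Algebra.FiniteType (MvPolynomial (Fin n) R) B := Algebra.FiniteType.of_restrictScalars_finiteType R _ _
  let I : Ideal (MvPolynomial (Fin n) R) := (maximalIdeal R).map (algebraMap R (MvPolynomial (Fin n) R))
  have hIJ : I.map (algebraMap (MvPolynomial (Fin n) R) B) = J := by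
    rw [Ideal.map_map, ← IsScalarTower.algebraMap_eq]
  have hfin : Module.Finite (MvPolynomial (Fin n) R) (B ⧸ I.map (algebraMap (MvPolynomial (Fin n) R) B)) := by
    rw [hIJ]
    have h1 : (algebraMap (MvPolynomial (Fin n) R) (B ⧸ J)).Finite := by
      have h2 : algebraMap (MvPolynomial (Fin n) R) (B ⧸ J) =
          (g : MvPolynomial (Fin n) (ResidueField R) →+* B ⧸ J).comp (MvPolynomial.map (residue R)) :=
        RingHom.ext fun P => (hmap P).symm
      rw [h2]
      exact RingHom.Finite.comp hgf (RingHom.Finite.of_surjective _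
        (MvPolynomial.map_surjective _ residue_surjective))
    exact RingHom.finite_algebraMap.1 h1
  have hqf : Algebra.WeaklyQuasiFiniteAt (MvPolynomial (Fin n) R) Q := by
    refine weaklyQuasiFiniteAt_of_finite I hfin Q ?_
    rw [← Ideal.map_le_iff_le_comap, hIJ]
    exact hJQ
  have hres : ∀ z : B, ∃ t : R, z - algebraMap R B t ∈ Q := by
    intro z
    let _ : Field (B ⧸ Q) := Ideal.Quotient.field Q
    let _ : Algebra (ResidueField R) (B ⧸ Q) := ((Ideal.Quotient.factor hJQ).comp
      (algebraMap (ResidueField R) (B ⧸ J))).toAlgebra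
    have htw : IsScalarTower R (ResidueField R) (B ⧸ Q) := IsScalarTower.of_algebraMap_eq fun r => rfl
    have h1 : Algebra.FiniteType R (B ⧸ Q) := inferInstance
    have h2 : Algebra.FiniteType (ResidueField R) (B ⧸ Q) := Algebra.FiniteType.of_restrictScalars_finiteType R _ _
    have h3 : Module.Finite (ResidueField R) (B ⧸ Q) := finite_of_finite_type_of_isJacobsonRing _ _
    have h4 : Function.Bijective (algebraMap (ResidueField R) (B ⧸ Q)) :=
      IsAlgClosed.algebraMap_bijective_of_isIntegral
    obtain ⟨w, hw⟩ := h4.2 (Ideal.Quotient.mk Q z)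
    obtain ⟨t, rfl⟩ := residue_surjective w
    exact ⟨t, Ideal.Quotient.eq.1 hw.symm⟩
  choose a₀ ha₀ using fun i => hres (x i)
  refine exists_section_aux hR hinjA Q hQ a₀ (fun i => ?_) b hb
  have h1 : algebraMap (MvPolynomial (Fin n) R) B (MvPolynomial.X i) = x i := MvPolynomial.aeval_X x i
  rw [h1]
  exact ha₀ i

/-- A section avoiding `b = 0` generically. -/
theorem exists_section [IsAlgClosed (FractionRing R)] [Algebra.FiniteType R B]
    (hinj : Function.Injective (algebraMap R B)) (Q : Ideal B) [Q.IsPrime]
    (hQ : Q.comap (algebraMap R B) = maximalIdeal R) (b : B) (hb : b ≠ 0) :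
    ∃ φ : B →ₐ[R] R, φ b ≠ 0 := by
  by_cases hR : maximalIdeal R = ⊥
  · -- `R` is an algebraically closed field
    have hf : IsField R := IsLocalRing.isField_iff_maximalIdeal_eq.2 hR
    let _ : Field R := hf.toField
    have hRa : IsAlgClosed R := IsAlgClosed.of_ringEquiv (FractionRing R) R
      (FractionRing.algEquiv R R).toRingEquiv
    have hnt : Nontrivial (Localization.Away b) := by
      exact (IsLocalization.injective (M := Submonoid.powers b) (Localization.Away b)
        (powers_le_nonZeroDivisors_of_noZeroDivisors hb)).nontrivial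
    obtain ⟨M, hM⟩ := Ideal.exists_maximal (Localization.Away b)
    have : Algebra.FiniteType R (Localization.Away b) := Algebra.FiniteType.trans (S := B) inferInstance
      (IsLocalization.finiteType_of_monoid_fg (Submonoid.powers b) (Localization.Away b))
    let _ : Field (Localization.Away b ⧸ M) := Ideal.Quotient.field M
    have h2 : Algebra.FiniteType R (Localization.Away b ⧸ M) := inferInstance
    have h3 : Module.Finite R (Localization.Away b ⧸ M) := finite_of_finite_type_of_isJacobsonRing _ _
    have h4 : Function.Bijective (algebraMap R (Localization.Away b ⧸ M)) :=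
      IsAlgClosed.algebraMap_bijective_of_isIntegral
    let e : R ≃ₐ[R] (Localization.Away b ⧸ M) := AlgEquiv.ofBijective (Algebra.ofId _ _) h4
    let φ : B →ₐ[R] R := (e.symm : _ →ₐ[R] R).comp ((Ideal.Quotient.mkₐ R M).comp
      (IsScalarTower.toAlgHom R B (Localization.Away b)))
    refine ⟨φ, fun h => ?_⟩
    have h5 : IsUnit (φ b) := by
      have h6 : IsUnit (algebraMap B (Localization.Away b) b) := IsLocalization.Away.algebraMap_isUnit b
      exact (h6.map (Ideal.Quotient.mk M)).map (e.symm : _ →ₐ[R] R)
    rw [h] at h5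
    exact not_isUnit_zero h5
  · obtain ⟨M, hM, hQM⟩ := Ideal.exists_le_maximal Q (Ideal.IsPrime.ne_top inferInstance)
    have hMc : M.comap (algebraMap R B) = maximalIdeal R := by
      have h1 : M.comap (algebraMap R B) ≠ ⊤ := (Ideal.comap_isPrime (algebraMap R B) M).ne_top
      refine le_antisymm (le_maximalIdeal h1) ?_
      rw [← hQ]
      exact Ideal.comap_mono hQM
    obtain ⟨φ, hφ, -⟩ := exists_section_of_ne_bot hR hinj M hMc b hb
    exact ⟨φ, hφ⟩

end Section

end K380.ValPt
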