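import Groth.Agent.SSMod.K755.Plan
import Groth.Agent.SSMod.K380.ValPt
import Groth.Agent.Dual.H375.SmoothDim
import Groth.Agent.S15990
import Groth.Agent.S0254
import Groth.Agent.Dix.NeronEllPts
import Groth.Agent.Dix.Cast5
import Groth.Agent.Divis.EffCartier
import Groth.Agent.Divis.CartierStalk
import Groth.Agent.Fcompl.H545.SysBasic
import Groth.Agent.Models.SmoothCase

/-!
# Divisors through smooth points over valuation rings (DIV)

`R` a valuation ring with algebraically closed fraction field, `p : X ⟶ Spec R` a relative curve. Through every closed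
point of the closed fibre at which `p` is smooth there is a section of `p`; its ideal is an effective Cartier divisor.
-/

set_option autoImplicit false
universe u
open CategoryTheory CategoryTheory.Limits AlgebraicGeometry TopologicalSpace IsLocalRing

namespace K380.Div

open Groth.Agent Groth.Agent.Divis.CartierBasic

theorem isClosedImmersion_sect {C T : Scheme.{u}} (f : C ⟶ T) [IsSeparated f] (σ : T ⟶ C) (hσ : σ ≫ f = 𝟙 T) :
    IsClosedImmersion σ := by
  have : IsClosedImmersion (σ ≫ f) := by rw [hσ]; infer_instance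
  exact IsClosedImmersion.of_comp σ f

theorem support_ker {C T : Scheme.{u}} (i : T ⟶ C) [IsClosedImmersion i] :
    (i.ker.support : Set C) = Set.range i := by
  rw [Scheme.Hom.support_ker, IsClosed.closure_eq]
  exact i.isClosedEmbedding.isClosed_range

/-- A section through the locus where the morphism is smooth of relative dimension one is an effective Cartier
divisor. -/
theorem isEff_ker {C T : Scheme.{u}} (f : C ⟶ T) [IsSeparated f] (σ : T ⟶ C) (hσ : σ ≫ f = 𝟙 T) (U : C.Opens)
    (hU : ∀ s, σ s ∈ U) [SmoothOfRelativeDimension 1 (U.ι ≫ f)] : BlowUp.IsEffCartierIdeal σ.ker := by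
  have hcl := isClosedImmersion_sect f σ hσ
  refine Divis.EffCartier.isEff_of_forall_comap fun x => ?_
  by_cases hx : x ∈ U
  · refine ⟨U, U.ι, inferInstance, ⟨⟨x, hx⟩, rfl⟩, ?_⟩
    let σ' : T ⟶ U := IsOpenImmersion.lift U.ι σ (by
      rw [Scheme.Opens.range_ι]
      rintro _ ⟨s, rfl⟩
      exact hU s)
    have h1 : σ' ≫ U.ι = σ := IsOpenImmersion.lift_fac _ _ _
    have h2 : IsClosedImmersion (σ' ≫ U.ι) := by rw [h1]; exact hcl
    have h3 := Fcompl.H545.SysBasic.comap_ker_comp σ' U.ι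
    rw [h1] at h3
    rw [h3]
    exact (S15990.result (U.ι ≫ f) σ' (by rw [reassoc_of% h1, hσ])).1
  · let W : C.Opens := ⟨(Set.range σ)ᶜ, σ.isClosedEmbedding.isClosed_range.isOpen_compl⟩
    have hxW : x ∈ W := fun ⟨s, hs⟩ => hx (hs ▸ hU s)
    refine ⟨W, W.ι, inferInstance, ⟨⟨x, hxW⟩, rfl⟩, ?_⟩
    have h1 : σ.ker.comap W.ι = ⊤ := by
      apply ext_stalkIdeal
      intro y
      rw [stalkIdeal_top, Divis.CartierStalk.stalkIdeal_comap]
      have h2 : W.ι y ∉ σ.ker.support := by
        intro h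
        have h3 : W.ι y ∈ (σ.ker.support : Set C) := h
        rw [support_ker] at h3
        exact y.2 h3
      rw [(notMem_support_iff_stalkIdeal_eq_top _ _).1 h2, Ideal.map_top]
    rw [h1]
    exact Divis.EffCartier.isEff_top

/-- Valuation rings with algebraically closed fraction field are henselian with algebraically closed residue field. -/
theorem henselian (R : Type u) [CommRing R] [IsDomain R] [ValuationRing R] [IsAlgClosed (FractionRing R)] :
    HenselianLocalRing R ∧ IsAlgClosed (ResidueField R) := by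
  have : IsIntegrallyClosed R := K263.RFGauss.isIntegrallyClosed_of_valuationRing R
  refine ⟨(Groth.Agent.S0254.result R).1, ?_⟩
  by_cases hR : maximalIdeal R = ⊥
  · have hf : IsField R := IsLocalRing.isField_iff_maximalIdeal_eq.2 hR
    let _ : Field R := hf.toField
    have hRa : IsAlgClosed R := IsAlgClosed.of_ringEquiv (FractionRing R) R
      (FractionRing.algEquiv R R).toRingEquiv
    have hb : Function.Bijective (residue R) :=
      ⟨(residue R).injective, residue_surjective⟩
    exact IsAlgClosed.of_ringEquiv R (ResidueField R) (RingEquiv.ofBijective (residue R) hb)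
  · exact K380.ValPt.isAlgClosed_residueField R hR

/-- sections through smooth points -/
theorem exists_section {R : Type u} [CommRing R] [IsDomain R] [ValuationRing R] [IsAlgClosed (FractionRing R)]
    {X : Scheme.{u}} (p : X ⟶ Spec (CommRingCat.of R)) (U : X.Opens) (hU : Smooth (U.ι ≫ p)) (x : X) (hx : x ∈ U)
    (hxc : IsClosed ({x} : Set X)) (hpx : p x = IsLocalRing.closedPoint R) :
    ∃ σ : Spec (CommRingCat.of R) ⟶ X, σ ≫ p = 𝟙 _ ∧ σ (IsLocalRing.closedPoint R) = x ∧ ∀ s, σ s ∈ U := by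
  obtain ⟨i1, i2⟩ := henselian R
  have hz : IsClosed ({(⟨x, hx⟩ : U)} : Set U) := by
    have h1 : ({(⟨x, hx⟩ : U)} : Set U) = U.ι ⁻¹' {x} := by
      ext w
      simp only [Set.mem_singleton_iff, Set.mem_preimage]
      constructor
      · rintro rfl; rfl
      · intro h; exact Subtype.ext h
    rw [h1]
    exact hxc.preimage U.ι.continuous
  obtain ⟨a, ha, hax⟩ := Groth.Agent.Dix.NeronEllPts.exists_lift_closed (U.ι ≫ p) ⟨x, hx⟩ hz hpx
  refine ⟨a ≫ U.ι, by rw [Category.assoc, ha], ?_, fun s => ?_⟩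
  · exact congrArg U.ι hax
  · exact (a s).2

theorem div (R : Type u) [CommRing R] [IsDomain R] [ValuationRing R] [IsAlgClosed (FractionRing R)]
    {X : Scheme.{u}} (p : X ⟶ Spec (CommRingCat.of R)) [IsSeparated p] [LocallyOfFinitePresentation p]
    [QuasiCompact p] (hdim : Cyc.HasRelDim p 1) (U : X.Opens) (hU : Smooth (U.ι ≫ p)) (x : X) (hx : x ∈ U)
    (hxc : IsClosed ({x} : Set X)) (hpx : p x = IsLocalRing.closedPoint R) :
    ∃ (L : X.Modules) (s : Coh.structureModule X ⟶ L), PicF.IsInvertible L ∧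
      x ∉ CohB1.genLocus L s ∧ (∀ y : X, y ∉ CohB1.genLocus L s → y ⤳ x) ∧
      ∀ q : Spec (CommRingCat.of R), (p ⁻¹' {q} \ (CohB1.genLocus L s : Set X)).Finite := by
  obtain ⟨V', n, hV', hn⟩ := Groth.Agent.Dual.H375.SmoothDim.exists_relDim (U.ι ≫ p) ⟨x, hx⟩
  rw [← Category.assoc] at hn
  obtain rfl : n = 1 := by
    let g := V'.ι ≫ U.ι
    let y : (g ≫ p).fiber (p x) := ((g ≫ p).fiberHomeo (p x)).symm ⟨⟨⟨x, hx⟩, hV'⟩, rfl⟩
    refine Groth.Agent.Models.SmoothCase.relDim_eq_one p g n hn (p x) (fun Z hZ => ?_) y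
    exact_mod_cast hdim (p x) Z hZ
  let V : X.Opens := (V'.ι ≫ U.ι).opensRange
  have hxV : x ∈ V := ⟨⟨⟨x, hx⟩, hV'⟩, rfl⟩
  have hVs : SmoothOfRelativeDimension 1 (V.ι ≫ p) := by
    have h1 : V.ι = (V'.ι ≫ U.ι).isoOpensRange.inv ≫ V'.ι ≫ U.ι := by
      rw [Scheme.Hom.isoOpensRange_inv_comp]
    rw [h1, Category.assoc]
    exact (inferInstance : SmoothOfRelativeDimension (0 + 1) ((V'.ι ≫ U.ι).isoOpensRange.inv ≫ (V'.ι ≫ U.ι) ≫ p))
  obtain ⟨σ, hσ, hσx, hσV⟩ := exists_section p V (SmoothOfRelativeDimension.smooth 1 _) x hxV hxc hpx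
  have hcl := isClosedImmersion_sect p σ hσ
  have hD := isEff_ker p σ hσ V hσV
  obtain ⟨s, hs⟩ := Groth.Agent.Dix.Cast5.exists_section σ hD
  have hmem : ∀ y : X, y ∉ CohB1.genLocus _ s ↔ y ∈ Set.range σ := by
    intro y
    have h1 : y ∈ (CohB1.genLocus _ s : Set X) ↔ y ∈ (Set.range σ)ᶜ := by rw [hs]
    constructor
    · intro h2
      by_contra h3
      exact h2 (h1.2 h3)
    · intro h2 h3
      exact (h1.1 h3) h2
  refine ⟨_, s, Groth.Agent.Grpsch.PicGrp.isInvertible_dual
    (Groth.Agent.Dix.IdealModCartier.isInvertible_idealMod hD), ?_, ?_, ?_⟩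
  · rw [hmem]; exact ⟨_, hσx⟩
  · intro y hy
    obtain ⟨t, rfl⟩ := (hmem y).1 hy
    rw [← hσx]
    exact (IsLocalRing.specializes_closedPoint (R := R) t).map σ.continuous
  · intro q
    refine (Set.finite_singleton (σ q)).subset ?_
    rintro y ⟨hy1, hy2⟩
    obtain ⟨t, rfl⟩ := (hmem y).1 hy2
    have h1 : p (σ t) = t := by
      rw [← Scheme.Hom.comp_apply, hσ]; rfl
    have h2 : p (σ t) = q := hy1
    rw [Set.mem_singleton_iff, ← h2, h1]

/-- **DIV.** -/
theorem main : K755.SSPlan.Div.{u} := by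
  intro R _ _ _ _ X p _ _ _ hdim U hU x hx hxc hpx
  exact div R p hdim U hU x hx hxc hpx

end K380.Div
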