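import Groth.Prelude.Def_SSMod
import Groth.Prelude.Def_Curv2

/-! # S14899 from S15277 (helper380): the case of no marked points. -/

set_option autoImplicit false
universe u
open CategoryTheory CategoryTheory.Limits AlgebraicGeometry

namespace K380.Row14899

/-- The exact statement of S15277. -/
def S15277 : Prop := ∀ {S C D : Scheme.{u}} [IsIntegral S] [CompactSpace S] [QuasiSeparatedSpace S]
    (φ : C ⟶ S) (i : D ⟶ C) (_ : SSMod.IsMPCurve φ i)
    (_ : SSMod.IsSemistable (pullback.snd φ (S.fromSpecStalk (genericPoint S)))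
      (CInt.baseChangeOver i φ (S.fromSpecStalk (genericPoint S)))),
    ∃ (S' : Scheme.{u}) (_ : IsIntegral S') (g : S' ⟶ S) (V : S.Opens),
      Curv2.IsAlteration g ∧ (V : Set S).Nonempty ∧ Etale (g ∣_ V) ∧
      ∃ (C' D' : Scheme.{u}) (i' : D' ⟶ C') (fC : C' ⟶ pullback φ g) (fD : D' ⟶ pullback (i ≫ φ) g),
        SSMod.IsStableModification (pullback.snd φ g) (CInt.baseChangeOver i φ g) i' fC fD ∧
        SSMod.IsEtaIso (pullback.snd φ g) fC ∧
        SSMod.IsEtaIso (CInt.baseChangeOver i φ g ≫ pullback.snd φ g) fD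

theorem isMPCurve_empty {S C E : Scheme.{u}} [IsEmpty E] (φ : C ⟶ S) (i : E ⟶ C) (h1 : Flat φ)
    (h2 : LocallyOfFinitePresentation φ) (h3 : QuasiCompact φ) (h4 : QuasiSeparated φ)
    (h5 : Cyc.HasRelDim φ 1) : SSMod.IsMPCurve φ i := by
  refine ⟨h1, h2, h3, h4, h5, inferInstance, inferInstance, inferInstance, ?_⟩
  intro y T hT
  have : IsEmpty ↥((i ≫ φ).fiber y) := ⟨fun x => isEmptyElim (((i ≫ φ).fiberι y) x)⟩
  obtain ⟨x, -⟩ := hT.1.1
  exact (this.false x).elim

theorem main (h : S15277.{u})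
    {S C : Scheme.{u}} [IsIntegral S] [CompactSpace S] [QuasiSeparatedSpace S]
    (φ : C ⟶ S) [Flat φ] [LocallyOfFinitePresentation φ] [QuasiCompact φ] [QuasiSeparated φ]
    (hdim : ∀ s : S, ∀ Z ∈ irreducibleComponents (φ.fiber s : Type u), topologicalKrullDim Z = 1)
    (hη : Curv2.IsNodalFamily (pullback.snd φ (S.fromSpecStalk (genericPoint S)))) :
    ∃ (S' : Scheme.{u}) (_ : IsIntegral S') (g : S' ⟶ S) (V : S.Opens),
      Curv2.IsAlteration g ∧ (V : Set S).Nonempty ∧ Etale (g ∣_ V) ∧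
      ∃ (C' : Scheme.{u}) (ψ : C' ⟶ pullback φ g), IsProper ψ ∧
        IsIso (pullback.snd ψ
          (pullback.fst (pullback.snd φ g) (S'.fromSpecStalk (genericPoint S')))) ∧
        Curv2.IsNodalFamily (ψ ≫ pullback.snd φ g) := by
  let i : (∅ : Scheme.{u}) ⟶ C := Scheme.emptyTo C
  have hC : SSMod.IsMPCurve φ i := isMPCurve_empty φ i inferInstance inferInstance inferInstance
    inferInstance (by intro s Z hZ; exact_mod_cast hdim s Z hZ)
  have he : IsEmpty ↥(pullback (i ≫ φ) (S.fromSpecStalk (genericPoint S))) :=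
    ⟨fun x => isEmptyElim ((pullback.fst (i ≫ φ) (S.fromSpecStalk (genericPoint S))) x)⟩
  have hη' : SSMod.IsSemistable (pullback.snd φ (S.fromSpecStalk (genericPoint S)))
      (CInt.baseChangeOver i φ (S.fromSpecStalk (genericPoint S))) := by
    refine ⟨isMPCurve_empty _ _ inferInstance inferInstance inferInstance inferInstance ?_, hη,
      inferInstance, ?_⟩
    · intro s Z hZ
      exact_mod_cast (hη.2.2 s).1 Z hZ
    · rw [Set.disjoint_left]
      rintro _ ⟨x, rfl⟩ _
      exact he.false x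
  obtain ⟨S', hS', g, V, hg, hV, het, C', D', i', fC, fD, hst, hC', hD'⟩ := h φ i hC hη'
  exact ⟨S', hS', g, V, hg, hV, het, C', fC, hst.1.1.2.2.1.1, hC', hst.1.2.2.1⟩

end K380.Row14899
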