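import Groth.Agent.SSMod.K807.Iface3

/-!
# The chart `u = ϖ^α ℓ`, `v = a' ℓ⁻¹` is an open immersion after inverting `ϖ`: `K807.Iface.ChartEta`
-/

set_option autoImplicit false
universe u
open CategoryTheory CategoryTheory.Limits AlgebraicGeometry IsLocalRing

namespace K380.ChartEta

open Groth.Agent.Models.NodeRing

section Alg

variable {R : Type u} [CommRing R] {ϖ : R} {a a' c : R} {α m : ℕ} {ℓ : Polynomial R}

variable (L M : Type u) [CommRing L] [CommRing M] [Algebra (Localization.Away ℓ) L]
  [IsLocalization.Away (algebraMap R (Localization.Away ℓ) ϖ) L]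
  [Algebra (W R a) M] [IsLocalization.Away (uu R a * algebraMap R (W R a) ϖ) M]

theorem bij (ha : a = ϖ ^ α * a')
    (hℓ : Polynomial.C (ϖ ^ α) * ℓ = Polynomial.C c + Polynomial.C (ϖ ^ m) * Polynomial.X)
    (θ : W R a →+* Localization.Away ℓ)
    (hr : ∀ r, θ (algebraMap R (W R a) r) = algebraMap R (Localization.Away ℓ) r)
    (hu : θ (uu R a) = algebraMap (Polynomial R) (Localization.Away ℓ) (Polynomial.C (ϖ ^ α) * ℓ))
    (hv : θ (vv R a) * algebraMap (Polynomial R) (Localization.Away ℓ) ℓ =
      algebraMap R (Localization.Away ℓ) a') :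
    ∃ e : M ≃+* L, (e : M →+* L).comp (algebraMap (W R a) M) = (algebraMap (Localization.Away ℓ) L).comp θ := by
  have hRL : ∀ r : R, algebraMap R (Localization.Away ℓ) r =
      algebraMap (Polynomial R) (Localization.Away ℓ) (Polynomial.C r) := fun r =>
    IsScalarTower.algebraMap_apply R (Polynomial R) (Localization.Away ℓ) r
  have hϖL : IsUnit (algebraMap (Localization.Away ℓ) L (algebraMap R (Localization.Away ℓ) ϖ)) :=
    IsLocalization.Away.algebraMap_isUnit _
  have hℓL : IsUnit (algebraMap (Polynomial R) (Localization.Away ℓ) ℓ) :=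
    IsLocalization.Away.algebraMap_isUnit _
  have huϖM : IsUnit (algebraMap (W R a) M (uu R a * algebraMap R (W R a) ϖ)) :=
    IsLocalization.Away.algebraMap_isUnit _
  rw [map_mul] at huϖM
  have huM : IsUnit (algebraMap (W R a) M (uu R a)) := isUnit_of_mul_isUnit_left huϖM
  have hϖM : IsUnit (algebraMap (W R a) M (algebraMap R (W R a) ϖ)) := isUnit_of_mul_isUnit_right huϖM
  let Θ : W R a →+* L := (algebraMap (Localization.Away ℓ) L).comp θ
  have hΘ : IsUnit (Θ (uu R a * algebraMap R (W R a) ϖ)) := by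
    rw [map_mul]
    refine IsUnit.mul ?_ ?_
    · change IsUnit (algebraMap (Localization.Away ℓ) L (θ (uu R a)))
      rw [hu, map_mul, map_mul]
      refine IsUnit.mul ?_ (hℓL.map _)
      rw [map_pow, map_pow, map_pow, ← hRL]
      exact hϖL.pow _
    · change IsUnit (algebraMap (Localization.Away ℓ) L (θ (algebraMap R (W R a) ϖ)))
      rw [hr]
      exact hϖL
  let Φ : M →+* L := IsLocalization.Away.lift (uu R a * algebraMap R (W R a) ϖ) hΘ
  have hΦ : ∀ w, Φ (algebraMap (W R a) M w) = Θ w := fun w => IsLocalization.Away.lift_eq _ hΘ w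
  -- the inverse
  obtain ⟨π, hπ⟩ := hϖM
  let x : M := ((π⁻¹ : Mˣ) : M) ^ m * algebraMap (W R a) M (uu R a - algebraMap R (W R a) c)
  have hx : (π : M) ^ m * x = algebraMap (W R a) M (uu R a - algebraMap R (W R a) c) := by
    change (π : M) ^ m * (((π⁻¹ : Mˣ) : M) ^ m * _) = _
    rw [← mul_assoc, ← mul_pow, Units.mul_inv, one_pow, one_mul]
  let ψ : Polynomial R →+* M := Polynomial.eval₂RingHom ((algebraMap (W R a) M).comp (algebraMap R (W R a))) x
  have hψC : ∀ r, ψ (Polynomial.C r) = algebraMap (W R a) M (algebraMap R (W R a) r) := fun r =>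
    Polynomial.eval₂_C _ _
  have hψX : ψ Polynomial.X = x := Polynomial.eval₂_X _ _
  have hψℓ : (π : M) ^ α * ψ ℓ = algebraMap (W R a) M (uu R a) := by
    have h1 := congrArg ψ hℓ
    rw [map_mul, map_add, map_mul, hψC, hψC, hψC, hψX, map_pow, map_pow, map_pow, map_pow, ← hπ, hx, map_sub] at h1
    rw [h1]; ring
  have hψu : IsUnit (ψ ℓ) := by
    have h1 : IsUnit ((π : M) ^ α * ψ ℓ) := by rw [hψℓ]; exact huM
    exact isUnit_of_mul_isUnit_right h1
  let ψ₁ : Localization.Away ℓ →+* M := IsLocalization.Away.lift ℓ hψu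
  have hψ₁ : ∀ w, ψ₁ (algebraMap (Polynomial R) (Localization.Away ℓ) w) = ψ w := fun w =>
    IsLocalization.Away.lift_eq _ hψu w
  have hψ₁u : IsUnit (ψ₁ (algebraMap R (Localization.Away ℓ) ϖ)) := by
    rw [hRL, hψ₁, hψC, ← hπ]
    exact π.isUnit
  let Ψ : L →+* M := IsLocalization.Away.lift (algebraMap R (Localization.Away ℓ) ϖ) hψ₁u
  have hΨ : ∀ w, Ψ (algebraMap (Localization.Away ℓ) L w) = ψ₁ w := fun w =>
    IsLocalization.Away.lift_eq _ hψ₁u w
  have h1 : Ψ.comp Θ = algebraMap (W R a) M := by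
    apply hom_ext
    · intro d
      change Ψ (algebraMap (Localization.Away ℓ) L (θ (algebraMap R (W R a) d))) = _
      rw [hΨ, hr, hRL, hψ₁, hψC]
    · change Ψ (algebraMap (Localization.Away ℓ) L (θ (uu R a))) = _
      rw [hΨ, hu, hψ₁, map_mul, hψC, map_pow, map_pow, ← hπ, hψℓ]
    · change Ψ (algebraMap (Localization.Away ℓ) L (θ (vv R a))) = _
      rw [hΨ]
      have h2 := congrArg ψ₁ hv
      rw [map_mul, hψ₁, hRL, hψ₁, hψC] at h2
      apply huM.mul_left_cancel
      rw [← map_mul, uu_mul_vv, ← hψℓ]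
      have h3 : algebraMap (W R a) M (algebraMap R (W R a) a) =
          (π : M) ^ α * algebraMap (W R a) M (algebraMap R (W R a) a') := by
        have h4 : algebraMap R (W R a) a = algebraMap R (W R a) (ϖ ^ α * a') := congrArg _ ha
        rw [h4, map_mul, map_mul, map_pow, map_pow, ← hπ]
      rw [h3, ← h2]; ring
  have h2 : Ψ.comp Φ = RingHom.id M := by
    refine IsLocalization.ringHom_ext (Submonoid.powers (uu R a * algebraMap R (W R a) ϖ)) ?_
    have h5 : Φ.comp (algebraMap (W R a) M) = Θ := RingHom.ext hΦ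
    rw [RingHom.comp_assoc, h5, h1, RingHom.id_comp]
  have h3 : Φ.comp Ψ = RingHom.id L := by
    refine IsLocalization.ringHom_ext (Submonoid.powers (algebraMap R (Localization.Away ℓ) ϖ)) ?_
    refine IsLocalization.ringHom_ext (Submonoid.powers ℓ) ?_
    have hC : ∀ r, Φ (ψ (Polynomial.C r)) =
        algebraMap (Localization.Away ℓ) L (algebraMap (Polynomial R) (Localization.Away ℓ) (Polynomial.C r)) := by
      intro r
      rw [hψC, hΦ]
      change algebraMap (Localization.Away ℓ) L (θ (algebraMap R (W R a) r)) = _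
      rw [hr, hRL]
    apply Polynomial.ringHom_ext
    · intro r
      change Φ (Ψ (algebraMap (Localization.Away ℓ) L (algebraMap (Polynomial R) (Localization.Away ℓ)
        (Polynomial.C r)))) = _
      rw [hΨ, hψ₁, hC]
      rfl
    · change Φ (Ψ (algebraMap (Localization.Away ℓ) L (algebraMap (Polynomial R) (Localization.Away ℓ)
        Polynomial.X))) = _
      rw [hΨ, hψ₁, hψX]
      change _ = algebraMap (Localization.Away ℓ) L (algebraMap (Polynomial R) (Localization.Away ℓ) Polynomial.X)
      apply (hϖL.pow m).mul_left_cancel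
      have h4 : Φ (π : M) = algebraMap (Localization.Away ℓ) L (algebraMap R (Localization.Away ℓ) ϖ) := by
        rw [hπ, hΦ]
        change algebraMap (Localization.Away ℓ) L (θ (algebraMap R (W R a) ϖ)) = _
        rw [hr]
      rw [← h4, ← map_pow, ← map_mul, hx, hΦ, map_pow, h4, ← map_pow, ← map_mul]
      change algebraMap (Localization.Away ℓ) L (θ (uu R a - algebraMap R (W R a) c)) = _
      rw [map_sub, hu, hr, hℓ]
      congr 1
      rw [map_add, map_mul, ← hRL, ← hRL, map_pow]; ring
  exact ⟨RingEquiv.ofRingHom Φ Ψ h3 h2, RingHom.ext hΦ⟩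

end Alg

/-- **(H)** -/
theorem main : K807.Iface.ChartEta.{u} := by
  intro R _ _ _ ϖ hϖ a a' c α m ℓ ha hℓ θ hr hu hv
  let L := Localization.Away (algebraMap R (Localization.Away ℓ) ϖ)
  let M := Localization.Away (uu R a * algebraMap R (W R a) ϖ)
  obtain ⟨e, he⟩ := bij L M ha hℓ θ hr hu hv
  let j : Spec (CommRingCat.of L) ⟶ Spec (CommRingCat.of (Localization.Away ℓ)) :=
    Spec.map (CommRingCat.ofHom (algebraMap (Localization.Away ℓ) L))
  have hj : IsOpenImmersion j := inferInstance
  refine ⟨j.opensRange, fun x hx => ?_, ?_⟩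
  · have h1 := PrimeSpectrum.localization_away_comap_range L (algebraMap R (Localization.Away ℓ) ϖ)
    have h2 : x ∈ Set.range (PrimeSpectrum.comap (algebraMap (Localization.Away ℓ) L)) := by
      rw [h1]; exact hx
    exact h2
  · have h1 : j.opensRange.ι = j.isoOpensRange.inv ≫ j := by rw [Scheme.Hom.isoOpensRange_inv_comp]
    have h2 : j ≫ Spec.map (CommRingCat.ofHom θ) =
        Spec.map (CommRingCat.ofHom (e : M →+* L)) ≫ Spec.map (CommRingCat.ofHom (algebraMap (W R a) M)) := by
      rw [← Spec.map_comp, ← Spec.map_comp, ← CommRingCat.ofHom_comp, ← CommRingCat.ofHom_comp, he]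
    have h3 : IsIso (CommRingCat.ofHom (e : M →+* L)) := (inferInstance : IsIso (e.toCommRingCatIso.hom))
    have h4 : IsOpenImmersion (Spec.map (CommRingCat.ofHom (algebraMap (W R a) M))) := inferInstance
    rw [h1, Category.assoc, h2]
    infer_instance

end K380.ChartEta
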