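import Groth.Agent.SSMod.K380.SmoothPt
import Groth.Agent.SSMod.K807.Iface3

/-!
# Flat maps from `R[u,v]/(uv - a)` to fields: `K807.Iface.FlatAlg`
-/

set_option autoImplicit false
universe u
open CategoryTheory CategoryTheory.Limits AlgebraicGeometry IsLocalRing

namespace K380.FlatAlg

open Groth.Agent.Models.NodeRing K380.SmoothPt

/-- Nonzerodivisors do not vanish under flat maps to fields. -/
theorem ne_of_flat {B F : Type u} [CommRing B] [Field F] (ρ : B →+* F) (hρ : ρ.Flat) (b : B)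
    (hb : ∀ w, b * w = 0 → w = 0) : ρ b ≠ 0 := by
  intro h0
  have h1 := mem_map_of_flat ρ hρ b 0 (fun w hw => by rw [hb w hw]; exact Ideal.zero_mem _) h0
  rw [map_zero] at h1
  exact not_isUnit_zero h1

/-- `u - c` is a nonzerodivisor of `R[u,v]/(uv)` for `c ≠ 0`. -/
theorem sub_zero_nzd {R : Type u} [CommRing R] [IsDomain R] {c : R} (hc : c ≠ 0)
    (w : W R 0) (h : (uu R 0 - algebraMap R (W R 0) c) * w = 0) : w = 0 := by
  obtain ⟨p, rfl⟩ := Ideal.Quotient.mk_surjective w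
  have h1 : (Ideal.Quotient.mk _ ((MvPolynomial.X 0 - MvPolynomial.C c) * p) : W R 0) = 0 := by
    rw [map_mul, map_sub]; exact h
  rw [Ideal.Quotient.eq_zero_iff_mem, map_zero, sub_zero, Ideal.mem_span_singleton'] at h1
  obtain ⟨q, hq⟩ := h1
  have hX0 : Prime (MvPolynomial.X 0 : MvPolynomial (Fin 2) R) := MvPolynomial.X_prime
  have hX1 : Prime (MvPolynomial.X 1 : MvPolynomial (Fin 2) R) := MvPolynomial.X_prime
  have hn0 : ¬ (MvPolynomial.X 0 : MvPolynomial (Fin 2) R) ∣ MvPolynomial.X 0 - MvPolynomial.C c := by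
    rintro ⟨s, hs⟩
    have h2 := congrArg (MvPolynomial.eval (fun _ => (0 : R))) hs
    simp at h2
    exact hc h2
  have hn1 : ¬ (MvPolynomial.X 1 : MvPolynomial (Fin 2) R) ∣ MvPolynomial.X 0 - MvPolynomial.C c := by
    rintro ⟨s, hs⟩
    have h2 := congrArg (MvPolynomial.eval (fun _ => (0 : R))) hs
    simp at h2
    exact hc h2
  obtain ⟨p1, rfl⟩ := (hX0.dvd_or_dvd (⟨q * MvPolynomial.X 1, by rw [← hq]; ring⟩ :
    (MvPolynomial.X 0 : MvPolynomial (Fin 2) R) ∣ (MvPolynomial.X 0 - MvPolynomial.C c) * p)).resolve_left hn0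
  have h3 : (MvPolynomial.X 0 - MvPolynomial.C c) * p1 = q * MvPolynomial.X 1 := by
    apply mul_left_cancel₀ hX0.ne_zero
    calc MvPolynomial.X 0 * ((MvPolynomial.X 0 - MvPolynomial.C c) * p1)
        = (MvPolynomial.X 0 - MvPolynomial.C c) * (MvPolynomial.X 0 * p1) := by ring
      _ = q * (MvPolynomial.X 0 * MvPolynomial.X 1) := hq.symm
      _ = MvPolynomial.X 0 * (q * MvPolynomial.X 1) := by ring
  obtain ⟨p2, rfl⟩ := (hX1.dvd_or_dvd (⟨q, by rw [h3]; ring⟩ :
    (MvPolynomial.X 1 : MvPolynomial (Fin 2) R) ∣ (MvPolynomial.X 0 - MvPolynomial.C c) * p1)).resolve_left hn1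
  rw [Ideal.Quotient.eq_zero_iff_mem, map_zero, sub_zero, Ideal.mem_span_singleton']
  exact ⟨p2, by ring⟩

/-- `u ≠ c` in `R[u,v]/(uv - a)`. -/
theorem uu_ne {R : Type u} [CommRing R] [IsDomain R] {ϖ : R} (hϖ : Irreducible ϖ) (a : R) {c : R} (hc : c ≠ 0) :
    uu R a ≠ algebraMap R (W R a) c := by
  intro h
  let K := FractionRing R
  have hcK : algebraMap R K c ≠ 0 := fun h0 => hc (IsFractionRing.injective R K (h0.trans (map_zero _).symm))
  have hϖK : algebraMap R K ϖ ≠ 0 := fun h0 => hϖ.ne_zero (IsFractionRing.injective R K (h0.trans (map_zero _).symm))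
  let ψ : W R a →+* K := lift (algebraMap R K) (algebraMap R K c * algebraMap R K ϖ)
    (algebraMap R K a / (algebraMap R K c * algebraMap R K ϖ)) (by
      rw [mul_div_cancel₀]
      exact mul_ne_zero hcK hϖK)
  have h1 := congrArg ψ h
  rw [lift_uu, lift_algebraMap] at h1
  have h2 : algebraMap R K ϖ = 1 := by
    apply mul_left_cancel₀ hcK
    rw [h1, mul_one]
  have h3 : ϖ = 1 := IsFractionRing.injective R K (h2.trans (map_one _).symm)
  exact hϖ.not_isUnit (by rw [h3]; exact isUnit_one)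

/-- **(J)** -/
theorem main : K807.Iface.FlatAlg.{u} := by
  intro R _ _ _ ϖ hϖ a ha F _ ρ hρ hρϖ
  rcases ha with rfl | ⟨n, rfl⟩
  · refine ⟨?_, fun c hc h => ?_⟩
    · by_contra hcon
      push Not at hcon
      have h1 := mem_map_of_flat ρ hρ (uu R 0) (vv R 0) (fun w hw => ann_uu w hw) hcon.1
      rw [hcon.2] at h1
      exact not_isUnit_zero h1
    · refine ne_of_flat ρ hρ (uu R 0 - algebraMap R (W R 0) c) (sub_zero_nzd hc) ?_
      rw [map_sub, h, sub_self]
  · have hne : ϖ ^ n ≠ 0 := pow_ne_zero n hϖ.ne_zero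
    have hdom : IsDomain (W R (ϖ ^ n)) := isDomain R (ϖ ^ n) hne
    refine ⟨?_, fun c hc h => ?_⟩
    · by_contra hcon
      push Not at hcon
      have h1 : ρ (algebraMap R (W R (ϖ ^ n)) (ϖ ^ n)) = 0 := by
        rw [← uu_mul_vv, map_mul, hcon.1, zero_mul]
      have h2 : ρ (algebraMap R (W R (ϖ ^ n)) (ϖ ^ n)) = ρ (algebraMap R (W R (ϖ ^ n)) ϖ) ^ n := by
        rw [← map_pow, ← map_pow]
      exact pow_ne_zero n hρϖ (h2.symm.trans h1)
    · refine ne_of_flat ρ hρ (uu R (ϖ ^ n) - algebraMap R (W R (ϖ ^ n)) c) (fun w hw => ?_) ?_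
      · exact (mul_eq_zero.1 hw).resolve_left (sub_ne_zero.2 (uu_ne hϖ _ hc))
      · rw [map_sub, h, sub_self]

end K380.FlatAlg
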