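import Groth.Agent.Models.K382.NodeOpen
import Groth.Agent.SSMod.K807.Iface
import Mathlib.RingTheory.Flat.EquationalCriterion

/-!
# Images of smooth points in nodal families: `K807.Iface.SmoothPt`

`h : U ⟶ X` over a discrete valuation ring `R` with `U` smooth, `X` nodal and `h` étale on generic fibres.  If `e ∈ U_s`
has a generization `ε ∈ U_s` with `h ε` not closed then `h e` is a smooth point.
-/

set_option autoImplicit false
universe u
open CategoryTheory CategoryTheory.Limits AlgebraicGeometry IsLocalRing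

namespace K380.SmoothPt

open Groth.Agent.Models.NodeRing Groth.Agent.K382 Groth.Agent.K382.NodeOpen

section Topology

/-- Images of closed points lying over a closed point of the base are closed. -/
theorem isClosed_image {Z X S : Scheme.{u}} (f : Z ⟶ X) (q : X ⟶ S) [LocallyOfFiniteType q] [LocallyOfFiniteType f]
    (z : Z) (hs : IsClosed ({q (f z)} : Set S)) (hcl : IsClosed ({z} : Set Z)) : IsClosed ({f z} : Set X) := by
  have : IsClosedImmersion (S.fromSpecResidueField (q (f z))) := isClosed_singleton_iff_isClosedImmersion.1 hs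
  have h1 : IsClosedImmersion (q.fiberι (q (f z))) := by
    exact MorphismProperty.of_isPullback (IsPullback.of_hasPullback q (S.fromSpecResidueField (q (f z)))).flip this
  obtain ⟨z', hz1, hz2⟩ := Scheme.Pullback.exists_preimage_pullback (f := f) (g := q.fiberι (q (f z))) z
    (q.asFiber (f z)) (q.fiberι_asFiber (f z)).symm
  have h2 : IsClosed ({z'} : Set ↥(pullback f (q.fiberι (q (f z))))) := by
    have h3 : IsClosedImmersion (pullback.fst f (q.fiberι (q (f z)))) := inferInstance
    have h4 : ({z'} : Set ↥(pullback f (q.fiberι (q (f z))))) = (pullback.fst f (q.fiberι (q (f z)))) ⁻¹' {z} := by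
      ext w
      simp only [Set.mem_singleton_iff, Set.mem_preimage]
      constructor
      · rintro rfl; exact hz1
      · intro hw
        exact (pullback.fst f (q.fiberι (q (f z)))).isClosedEmbedding.injective (hw.trans hz1.symm)
    rw [h4]
    exact hcl.preimage (pullback.fst f (q.fiberι (q (f z)))).continuous
  have h5 : JacobsonSpace ↥(q.fiber (q (f z))) := by
    have h6 : LocallyOfFiniteType (q.fiberToSpecResidueField (q (f z))) := by
      exact MorphismProperty.of_isPullback (IsPullback.of_hasPullback q (S.fromSpecResidueField (q (f z)))) inferInstance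
    exact LocallyOfFiniteType.jacobsonSpace (q.fiberToSpecResidueField (q (f z)))
  have h7 : IsClosed ({pullback.snd f (q.fiberι (q (f z))) z'} : Set ↥(q.fiber (q (f z)))) :=
    (pullback.snd f (q.fiberι (q (f z)))).closePoints_subset_preimage_closedPoints h2
  rw [hz2] at h7
  have h8 := (q.fiberι (q (f z))).isClosedEmbedding.isClosedMap _ h7
  rw [Set.image_singleton] at h8
  have h9 : q.fiberι (q (f z)) (q.asFiber (f z)) = f z := q.fiberι_asFiber (f z)
  rwa [h9] at h8

/-- Points over a closed point along a locally quasi-finite morphism are closed. -/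
theorem isClosed_of_image {Z X : Scheme.{u}} (f : Z ⟶ X) [LocallyQuasiFinite f] (z : Z)
    (h : IsClosed ({f z} : Set X)) : IsClosed ({z} : Set Z) := by
  refine isClosed_of_closure_subset fun w hw => ?_
  have hspec : z ⤳ w := specializes_iff_mem_closure.2 hw
  have h2 : f w = f z := by
    have h3 : f z ⤳ f w := hspec.map f.continuous
    have h4 := specializes_iff_mem_closure.1 h3
    rwa [h.closure_eq] at h4
  have hd : DiscreteTopology ↥(f ⁻¹' {f z}) := (f.isDiscrete_preimage_singleton (f z)).to_subtype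
  have h3 : (⟨z, rfl⟩ : ↥(f ⁻¹' {f z})) ⤳ ⟨w, h2⟩ := (Topology.IsInducing.subtypeVal.specializes_iff).1 hspec
  have h4 := h3.eq
  exact (congrArg Subtype.val h4).symm

end Topology

section Algebra

/-- `A` Noetherian local, `t` a nonzerodivisor generating a prime ideal: `A` is a domain. -/
theorem isDomain_of_prime_regular {N : Type u} [CommRing N] [IsNoetherianRing N] [IsLocalRing N] (t : N)
    (ht : (Ideal.span {t}).IsPrime) (hreg : ∀ x, t * x = 0 → x = 0) : IsDomain N := by
  have hsep : ∀ x : N, x ≠ 0 → ∃ n, ∃ y, x = t ^ n * y ∧ y ∉ Ideal.span {t} := by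
    intro x hx
    have h1 : ∃ n, x ∉ Ideal.span {t ^ n} := by
      by_contra hcon
      push Not at hcon
      apply hx
      have h2 := Ideal.iInf_pow_eq_bot_of_isLocalRing (Ideal.span {t}) ht.ne_top
      rw [← Ideal.mem_bot, ← h2, Submodule.mem_iInf]
      intro n
      rw [Ideal.span_singleton_pow]
      exact hcon n
    classical
    have hspec := Nat.find_spec h1
    have hpos : Nat.find h1 ≠ 0 := by
      intro h0
      rw [h0] at hspec
      exact hspec (by simp)
    obtain ⟨m, hm⟩ := Nat.exists_eq_succ_of_ne_zero hpos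
    have h3 : x ∈ Ideal.span {t ^ m} := by
      have := Nat.find_min h1 (m := m) (by omega)
      push Not at this
      exact this
    obtain ⟨y, hy⟩ := Ideal.mem_span_singleton'.1 h3
    refine ⟨m, y, by rw [← hy]; ring, ?_⟩
    intro hyt
    apply hspec
    obtain ⟨z, hz⟩ := Ideal.mem_span_singleton'.1 hyt
    rw [hm, Ideal.mem_span_singleton']
    exact ⟨z, by rw [← hy, ← hz, Nat.succ_eq_add_one, pow_succ]; ring⟩
  have hpow : ∀ (n : ℕ) (x : N), t ^ n * x = 0 → x = 0 := by
    intro n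
    induction n with
    | zero => intro x hx; simpa using hx
    | succ n ih =>
      intro x hx
      apply ih
      apply hreg
      rw [← mul_assoc, ← pow_succ']
      exact hx
  have hnt : Nontrivial N := inferInstance
  have hnz : NoZeroDivisors N := by
    constructor
    intro x y hxy
    by_contra hcon
    rw [not_or] at hcon
    obtain ⟨n, x', rfl, hx'⟩ := hsep x hcon.1
    obtain ⟨m, y', rfl, hy'⟩ := hsep y hcon.2
    have h1 : x' * y' = 0 := by
      apply hpow (n + m)
      rw [← hxy]; ring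
    have h2 : x' * y' ∈ Ideal.span {t} := by rw [h1]; exact Ideal.zero_mem _
    rcases ht.mem_or_mem h2 with h | h
    · exact hx' h
    · exact hy' h
  exact NoZeroDivisors.to_isDomain N

theorem dvd_of_mul_eq_pow {A : Type u} [CommRing A] [IsDomain A] {t u v : A} (ht : Prime t) (n : ℕ)
    (h : u * v = t ^ n) (hu : ¬ IsUnit u) : t ∣ u := by
  by_contra hcon
  apply hu
  have h1 : t ^ n ∣ v := ht.pow_dvd_of_dvd_mul_left n hcon (by rw [h])
  obtain ⟨w, hw⟩ := h1
  refine IsUnit.of_mul_eq_one w ?_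
  have h2 : t ^ n * (u * w) = t ^ n * 1 := by
    rw [mul_one, ← h]
    nth_rewrite 2 [hw]
    rw [← h]; ring
  exact mul_left_cancel₀ (pow_ne_zero n ht.ne_zero) h2

theorem ann_uu {D : Type u} [CommRing D] [IsDomain D] (w : W D 0) (h : uu D 0 * w = 0) :
    w ∈ Ideal.span {vv D 0} := by
  obtain ⟨p, rfl⟩ := Ideal.Quotient.mk_surjective w
  rw [uu, ← map_mul, Ideal.Quotient.eq_zero_iff_mem, map_zero, sub_zero, Ideal.mem_span_singleton'] at h
  obtain ⟨q, hq⟩ := h
  rw [Ideal.mem_span_singleton']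
  refine ⟨Ideal.Quotient.mk _ q, ?_⟩
  rw [vv, ← map_mul]
  congr 1
  apply mul_left_cancel₀ (MvPolynomial.X_ne_zero (R := D) (0 : Fin 2))
  rw [← hq]; ring

theorem ann_vv {D : Type u} [CommRing D] [IsDomain D] (w : W D 0) (h : vv D 0 * w = 0) :
    w ∈ Ideal.span {uu D 0} := by
  obtain ⟨p, rfl⟩ := Ideal.Quotient.mk_surjective w
  rw [vv, ← map_mul, Ideal.Quotient.eq_zero_iff_mem, map_zero, sub_zero, Ideal.mem_span_singleton'] at h
  obtain ⟨q, hq⟩ := h
  rw [Ideal.mem_span_singleton']
  refine ⟨Ideal.Quotient.mk _ q, ?_⟩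
  rw [uu, ← map_mul]
  congr 1
  apply mul_left_cancel₀ (MvPolynomial.X_ne_zero (R := D) (1 : Fin 2))
  rw [← hq]; ring

theorem mem_map_of_flat {B A : Type u} [CommRing B] [CommRing A] (ψ : B →+* A) (hψ : ψ.Flat) (b₁ b₂ : B)
    (hann : ∀ w, b₁ * w = 0 → w ∈ Ideal.span {b₂}) (h0 : ψ b₁ = 0) : IsUnit (ψ b₂) := by
  algebraize [ψ]
  have h1 : ∑ i : Fin 1, (fun _ => b₁) i • (fun _ => (1 : A)) i = 0 := by
    simp only [Finset.univ_unique, Finset.sum_const, Finset.card_singleton, one_smul]
    rw [Algebra.smul_def, mul_one]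
    exact h0
  have h2 := Module.Flat.isTrivialRelation_of_sum_smul_eq_zero h1
  obtain ⟨κ, a, y, h3, h4⟩ := h2
  have h5 : (1 : A) ∈ Ideal.span {ψ b₂} := by
    have h30 : (1 : A) = ∑ j, a 0 j • y j := h3 0
    rw [h30]
    refine Ideal.sum_mem _ fun j _ => ?_
    rw [Algebra.smul_def]
    apply Ideal.mul_mem_right
    have h6 : b₁ * a 0 j = 0 := by
      have := h4 j
      simpa using this
    obtain ⟨c, hc⟩ := Ideal.mem_span_singleton'.1 (hann _ h6)
    rw [← hc, map_mul]
    exact Ideal.mul_mem_left _ _ (Ideal.mem_span_singleton_self _)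
  obtain ⟨c, hc⟩ := Ideal.mem_span_singleton'.1 h5
  exact IsUnit.of_mul_eq_one c (by rw [mul_comm]; exact hc)

end Algebra

section Stalks

theorem stalkHom_specializes {B : Type u} [CommRing B] {X : Scheme.{u}} (h : X ⟶ Spec (CommRingCat.of B)) {x ζ : X}
    (hs : ζ ⤳ x) (b : B) :
    (X.presheaf.stalkSpecializes hs).hom (DualGr.stalkHom h x b) = DualGr.stalkHom h ζ b := by
  have h1 := X.presheaf.germ_stalkSpecializes (U := ⊤) (y := x) trivial hs
  exact congrArg (fun φ => φ.hom (show Γ(X, ⊤) from Coh.toGlobal h b)) h1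

theorem specMap_stalkHom {B : Type u} [CommRing B] {X : Scheme.{u}} (h : X ⟶ Spec (CommRingCat.of B)) (x : X) :
    Spec.map (CommRingCat.ofHom (DualGr.stalkHom h x)) = X.fromSpecStalk x ≫ h := by
  have h1 : CommRingCat.ofHom (DualGr.stalkHom h x) =
      CommRingCat.ofHom (R := B) (S := Γ(X, ⊤)) (Coh.toGlobal h) ≫
        X.presheaf.germ ⊤ x trivial := rfl
  rw [h1, Spec.map_comp, ← Scheme.fromSpecStalk_toSpecΓ, Category.assoc,
    Groth.Agent.VarietyB.ResMap.specMap_toGlobal]

theorem mem_fromSpecStalk_iff {B : Type u} [CommRing B] {X : Scheme.{u}} (h : X ⟶ Spec (CommRingCat.of B)) (x : X)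
    (P : Spec (X.presheaf.stalk x)) (b : B) :
    b ∈ (h (X.fromSpecStalk x P)).asIdeal ↔ DualGr.stalkHom h x b ∈ P.asIdeal := by
  have h2 : (X.fromSpecStalk x ≫ h) P = (Spec.map (CommRingCat.ofHom (DualGr.stalkHom h x))) P := by
    rw [specMap_stalkHom]
  have h3 : h (X.fromSpecStalk x P) = (Spec.map (CommRingCat.ofHom (DualGr.stalkHom h x))) P := h2
  rw [h3]
  rfl

theorem stalkHom_ι {B : Type u} [CommRing B] {X : Scheme.{u}} (h : X ⟶ Spec (CommRingCat.of B)) (V : X.Opens)
    (x : V) (b : B) :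
    DualGr.stalkHom (V.ι ≫ h) x b = (V.ι.stalkMap x).hom (DualGr.stalkHom h (V.ι x) b) := by
  have h1 := Scheme.Hom.germ_stalkMap_apply V.ι ⊤ x trivial (show Γ(X, ⊤) from Coh.toGlobal h b)
  exact h1.symm

/-- Primes above the other branch lie over `V(t)` if one branch vanishes. -/
theorem mem_of_mem {B : Type u} [CommRing B] {X : Scheme.{u}} (h : X ⟶ Spec (CommRingCat.of B)) (x : X)
    (b₁ b₂ t : B) (hann : ∀ w, b₁ * w = 0 → w ∈ Ideal.span {b₂}) (h0 : DualGr.stalkHom h x b₁ = 0)
    (V : X.Opens) (hV : ∀ n, t ∉ (h n).asIdeal → n ∈ V) (hflat : Flat (V.ι ≫ h))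
    (P : Ideal (X.presheaf.stalk x)) [hP : P.IsPrime] (hb : DualGr.stalkHom h x b₂ ∈ P) :
    DualGr.stalkHom h x t ∈ P := by
  by_contra ht
  let n : X := X.fromSpecStalk x ⟨P, hP⟩
  have hn : n ⤳ x := Scheme.range_fromSpecStalk.le ⟨⟨P, hP⟩, rfl⟩
  have h1 : t ∉ (h n).asIdeal := fun h' => ht ((mem_fromSpecStalk_iff h x ⟨P, hP⟩ t).1 h')
  have h2 : b₂ ∈ (h n).asIdeal := (mem_fromSpecStalk_iff h x ⟨P, hP⟩ b₂).2 hb
  have h3 : n ∈ V := hV n h1
  let n' : (V : Scheme.{u}) := ⟨n, h3⟩
  have h4 := K793.Basic.flat_stalkHom (V.ι ≫ h) n'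
  have h5 : DualGr.stalkHom (V.ι ≫ h) n' b₁ = 0 := by
    have h6 : DualGr.stalkHom h n b₁ = 0 := by
      rw [← stalkHom_specializes h hn, h0, map_zero]
    exact (stalkHom_ι h V n' b₁).trans ((congrArg (V.ι.stalkMap n').hom h6).trans (map_zero _))
  have h6 := mem_map_of_flat _ h4 b₁ b₂ hann h5
  have h7 := (K793.Basic.isUnit_stalkHom_iff (V.ι ≫ h) n' b₂).1 h6
  exact h7 h2

end Stalks

section Main

/-- both coordinates are divisible by the uniformizer -/
theorem mem_span {D : Type u} [CommRing D] [IsDomain D] (a t : D) (ha : a = 0 ∨ ∃ n : ℕ, a = t ^ n)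
    {Z : Scheme.{u}} (h : Z ⟶ Spec (CommRingCat.of (W D a))) (z : Z) [IsDomain (Z.presheaf.stalk z)]
    (hprime : (Ideal.span {DualGr.stalkHom h z (algebraMap D _ t)}).IsPrime)
    (hne : DualGr.stalkHom h z (algebraMap D _ t) ≠ 0)
    (hu : uu D a ∈ (h z).asIdeal) (hv : vv D a ∈ (h z).asIdeal)
    (V : Z.Opens) (hV : ∀ n, algebraMap D (W D a) t ∉ (h n).asIdeal → n ∈ V) (hflat : Flat (V.ι ≫ h)) :
    DualGr.stalkHom h z (uu D a) ∈ Ideal.span {DualGr.stalkHom h z (algebraMap D _ t)} ∧
      DualGr.stalkHom h z (vv D a) ∈ Ideal.span {DualGr.stalkHom h z (algebraMap D _ t)} := by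
  have htp : Prime (DualGr.stalkHom h z (algebraMap D _ t)) := (Ideal.span_singleton_prime hne).1 hprime
  have hu' : ¬ IsUnit (DualGr.stalkHom h z (uu D a)) := by
    rw [K793.Basic.isUnit_stalkHom_iff]; exact fun h => h hu
  have hv' : ¬ IsUnit (DualGr.stalkHom h z (vv D a)) := by
    rw [K793.Basic.isUnit_stalkHom_iff]; exact fun h => h hv
  have hprod : DualGr.stalkHom h z (uu D a) * DualGr.stalkHom h z (vv D a) =
      DualGr.stalkHom h z (algebraMap D _ a) := by
    rw [← map_mul, uu_mul_vv]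
  rw [Ideal.mem_span_singleton, Ideal.mem_span_singleton]
  -- if `b` divides a power of `t` and is a nonunit then `t ∣ b`
  have key : ∀ b : Z.presheaf.stalk z, ¬ IsUnit b →
      (∀ (P : Ideal (Z.presheaf.stalk z)) [P.IsPrime], b ∈ P → DualGr.stalkHom h z (algebraMap D _ t) ∈ P) →
      DualGr.stalkHom h z (algebraMap D _ t) ∣ b := by
    intro b hb h1
    have h2 : DualGr.stalkHom h z (algebraMap D _ t) ∈ (Ideal.span {b}).radical := by
      rw [Ideal.radical_eq_sInf, Ideal.mem_sInf]
      rintro P ⟨hP1, hP2⟩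
      exact h1 P (hP1 (Ideal.mem_span_singleton_self b))
    obtain ⟨n, hn⟩ := h2
    obtain ⟨c, hc⟩ := Ideal.mem_span_singleton'.1 hn
    exact dvd_of_mul_eq_pow htp n (by rw [mul_comm]; exact hc) hb
  rcases ha with rfl | ⟨n, ha⟩
  · have hz0 : DualGr.stalkHom h z (algebraMap D (W D 0) 0) = 0 := by simp
    have hprod := hprod.trans hz0
    rcases mul_eq_zero.1 hprod with h0 | h0
    · refine ⟨by rw [h0]; exact dvd_zero _, key _ hv' fun P hP hb => ?_⟩
      exact mem_of_mem h z (uu D 0) (vv D 0) _ (fun w hw => ann_uu w hw) h0 V hV hflat P hb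
    · refine ⟨key _ hu' fun P hP hb => ?_, by rw [h0]; exact dvd_zero _⟩
      exact mem_of_mem h z (vv D 0) (uu D 0) _ (fun w hw => ann_vv w hw) h0 V hV hflat P hb
  · have h1 : DualGr.stalkHom h z (algebraMap D _ a) = (DualGr.stalkHom h z (algebraMap D _ t)) ^ n := by
      rw [← map_pow, ← map_pow, ← ha]
    rw [h1] at hprod
    exact ⟨dvd_of_mul_eq_pow htp n hprod hu', dvd_of_mul_eq_pow htp n (by rw [mul_comm]; exact hprod) hv'⟩

/-- **Node (B)** of the discrete valuation ring case of S15273. -/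
theorem main : K807.Iface.SmoothPt.{u} := by
  intro R _ _ _ X U q hq h hsm O hO hOe e ε hεe hε hncl hns
  obtain ⟨ϖ, hϖ⟩ := IsDiscreteValuationRing.exists_irreducible R
  have hqp : LocallyOfFinitePresentation q := hq.2.1
  have hhft : LocallyOfFiniteType h := by
    have : LocallyOfFiniteType (h ≫ q) := inferInstance
    exact locallyOfFiniteType_of_comp h q
  have hcl : IsClosed ({(closedPoint R : PrimeSpectrum R)} : Set (PrimeSpectrum R)) :=
    (PrimeSpectrum.isClosed_singleton_iff_isMaximal _).2 (by change (maximalIdeal R).IsMaximal; infer_instance)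
  have he : q (h e) = (closedPoint R : PrimeSpectrum R) := by
    have h1 : q (h ε) ⤳ q (h e) := (hεe.map h.continuous).map q.continuous
    rw [hε] at h1
    exact hcl.closure_eq.le (specializes_iff_mem_closure.1 h1)
  have hy : h e ∉ q.smoothLocus := by
    intro h1
    exact hns (Scheme.Hom.mem_smoothLocus.1 h1)
  obtain ⟨C⟩ := K793.Chart.exists_nchart hϖ q hq (h e) he
  obtain ⟨e', h1, h2⟩ := Scheme.Pullback.exists_preimage_pullback (f := h) (g := C.e) e C.y C.hy.symm
  let h' := pullback.snd h C.e ≫ C.g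
  have hw : pullback.fst h C.e ≫ h ≫ q = (h' ≫ Spec.map (CommRingCat.ofHom (algebraMap C.D (W C.D C.a)))) ≫
      Spec.map (CommRingCat.ofHom (algebraMap R C.D)) := by
    rw [← Category.assoc, pullback.condition, Category.assoc, ← C.w]
    simp only [Category.assoc, h']
  have hhe : h' e' = C.g C.y := by
    change C.g (pullback.snd h C.e e') = _
    rw [h2]
  have ht : algebraMap C.D (W C.D C.a) C.t ∈ (C.g C.y).asIdeal := by
    rw [C.t_mem_iff hϖ, C.hy]; exact he
  have het : Etale (pullback.fst h C.e) :=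
    MorphismProperty.of_isPullback (IsPullback.of_hasPullback h C.e).flip (inferInstanceAs (Etale C.e))
  have hsm' : Smooth (pullback.fst h C.e ≫ h ≫ q) := inferInstance
  have hst : ∀ n, DualGr.stalkHom h' n (algebraMap C.D _ C.t) =
      DualGr.stalkHom (pullback.fst h C.e ≫ h ≫ q) n ϖ := by
    intro n
    rw [hw, stalkHom_comp, stalkHom_comp]
  have hprime : (Ideal.span {DualGr.stalkHom h' e' (algebraMap C.D _ C.t)}).IsPrime := by
    rw [hst]
    refine isPrime_of_mem_smoothLocus hϖ (pullback.fst h C.e ≫ h ≫ q) e' ?_ ?_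
    · change q (h (pullback.fst h C.e e')) = _
      rw [h1]; exact he
    · rw [Scheme.Hom.smoothLocus_eq_top]; trivial
  have hreg : ∀ x, DualGr.stalkHom h' e' (algebraMap C.D _ C.t) * x = 0 → x = 0 := by
    intro x hx
    rw [hst] at hx
    exact K793.Basic.eq_zero_of_stalkHom_mul (pullback.fst h C.e ≫ h ≫ q) e' hϖ.ne_zero hx
  have hN : IsLocallyNoetherian (pullback h C.e) := LocallyOfFiniteType.isLocallyNoetherian (pullback.fst h C.e ≫ h ≫ q)
  have hdom : IsDomain ((pullback h C.e).presheaf.stalk e') := isDomain_of_prime_regular _ hprime hreg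
  have hne : DualGr.stalkHom h' e' (algebraMap C.D _ C.t) ≠ 0 := by
    intro h0
    exact one_ne_zero (hreg 1 (by rw [h0, zero_mul]))
  have hflat : Flat ((pullback.fst h C.e ⁻¹ᵁ O).ι ≫ h') := by
    have h3 : Etale ((pullback.fst h C.e ∣_ O) ≫ O.ι ≫ h) := inferInstance
    rw [← Category.assoc, morphismRestrict_ι, Category.assoc, pullback.condition, ← Category.assoc] at h3
    have h4 : Etale ((pullback.fst h C.e ⁻¹ᵁ O).ι ≫ pullback.snd h C.e) := Etale.of_comp _ C.e
    have h5 : Etale (((pullback.fst h C.e ⁻¹ᵁ O).ι ≫ pullback.snd h C.e) ≫ C.g) := inferInstance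
    rw [Category.assoc] at h5
    infer_instance
  have hV : ∀ n, algebraMap C.D (W C.D C.a) C.t ∉ (h' n).asIdeal → n ∈ pullback.fst h C.e ⁻¹ᵁ O := by
    intro n hn
    refine hO _ fun h3 => hn ?_
    change algebraMap C.D (W C.D C.a) C.t ∈ (C.g (pullback.snd h C.e n)).asIdeal
    rw [C.t_mem_iff hϖ, ← h3]
    change q ((pullback.snd h C.e ≫ C.e) n) = q ((pullback.fst h C.e ≫ h) n)
    rw [pullback.condition]
  obtain ⟨hu, hv⟩ := mem_span C.a C.t C.ha h' e' hprime hne (by rw [hhe]; exact uu_mem C hy)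
    (by rw [hhe]; exact vv_mem C hy) _ hV hflat
  obtain ⟨N₁, hN₁, hN₁'⟩ := NodeCore.exists_nbhd h' e' _ _ hu
  obtain ⟨N₂, hN₂, hN₂'⟩ := NodeCore.exists_nbhd h' e' _ _ hv
  obtain ⟨ε', hε1, hε2⟩ : ∃ ε' : ↥(pullback h C.e), ε' ⤳ e' ∧ pullback.fst h C.e ε' = ε := by
    have hfl : Flat (pullback.fst h C.e) := inferInstance
    have hg := Flat.generalizingMap (pullback.fst h C.e)
    have h3 : ε ⤳ pullback.fst h C.e e' := by rw [h1]; exact hεe
    obtain ⟨ε', h4, h5⟩ := hg h3
    exact ⟨ε', h4, h5⟩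
  have hε1' : ε' ∈ N₁ := hε1.mem_open N₁.isOpen hN₁
  have hε2' : ε' ∈ N₂ := hε1.mem_open N₂.isOpen hN₂
  have htε : algebraMap C.D (W C.D C.a) C.t ∈ (h' ε').asIdeal := by
    change algebraMap C.D (W C.D C.a) C.t ∈ (C.g (pullback.snd h C.e ε')).asIdeal
    rw [C.t_mem_iff hϖ, ← hε, ← hε2]
    change q ((pullback.snd h C.e ≫ C.e) ε') = q ((pullback.fst h C.e ≫ h) ε')
    rw [pullback.condition]
  have huε := hN₁' ε' hε1' htε
  have hvε := hN₂' ε' hε2' htε
  have hmax : IsClosed ({h' ε'} : Set ↥(Spec (CommRingCat.of (W C.D C.a)))) := by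
    refine (PrimeSpectrum.isClosed_singleton_iff_isMaximal _).2 ?_
    have hp : (h' ε').asIdeal.IsPrime := (h' ε').isPrime
    obtain ⟨m, hm1, hm2⟩ := Ideal.exists_le_maximal (h' ε').asIdeal hp.ne_top
    have h3 := eq_span_of_mem C.D C.t C.irr m (hm2 huε) (hm2 hvε) (hm2 htε)
    have h4 := eq_span_of_mem C.D C.t C.irr (h' ε').asIdeal huε hvε htε
    rw [h4, ← h3]
    exact hm1
  have : LocallyQuasiFinite C.g := K793.Chart.locallyQuasiFinite_of_etale C.g
  have hz : IsClosed ({pullback.snd h C.e ε'} : Set C.U) := isClosed_of_image C.g _ hmax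
  have hez : C.e (pullback.snd h C.e ε') = h ε := by
    rw [← hε2]
    change (pullback.snd h C.e ≫ C.e) ε' = (pullback.fst h C.e ≫ h) ε'
    rw [pullback.condition]
  apply hncl
  rw [← hez]
  refine isClosed_image C.e q _ ?_ hz
  rw [hez, hε]
  exact hcl

end Main

end K380.SmoothPt
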