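import Groth.Agent.SSMod.K380.SolGlue
import Groth.Agent.SSMod.K971.Spread
import Groth.Agent.SSMod.K342.StabE
import Groth.Agent.FlatMor.K264.Rfc.DescEta

/-!
# Descent of stable modifications along limits of integral schemes (helper380)
-/

set_option autoImplicit false
set_option backward.isDefEq.respectTransparency false
set_option backward.defeqAttrib.useBackward true
universe u
open CategoryTheory CategoryTheory.Limits AlgebraicGeometry TopologicalSpace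

namespace K380.SolDesc

open K380.SolGlue K342.Dat

section Pre

variable {S T C D C' D' CT DT CT' DT' : Scheme.{u}}

/-- Everything in a stable modification isomorphic on generic fibres except the fibre conditions. -/
structure Pre [IsIntegral S] (φ : C ⟶ S) (i : D ⟶ C) (i' : D' ⟶ C') (f : C' ⟶ C) (fD : D' ⟶ D) :
    Prop where
  mp : SSMod.IsMPCurve φ i
  w : i' ≫ f = fD ≫ i
  mp' : SSMod.IsMPCurve (f ≫ φ) i'
  p : IsProper f
  pD : IsProper fD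
  e : SSMod.IsEtaIso φ f
  eD : SSMod.IsEtaIso (i ≫ φ) fD

theorem Pre.of_stable [IsIntegral S] {φ : C ⟶ S} {i : D ⟶ C} {i' : D' ⟶ C'} {f : C' ⟶ C} {fD : D' ⟶ D}
    (hC : SSMod.IsMPCurve φ i) (h : SSMod.IsStableModification φ i i' f fD) (h1 : SSMod.IsEtaIso φ f)
    (h2 : SSMod.IsEtaIso (i ≫ φ) fD) : Pre φ i i' f fD :=
  ⟨hC, h.1.1.1, h.1.1.2.1, h.1.1.2.2.1.1, h.1.1.2.2.2.1, h1, h2⟩

theorem isModification_of_isEtaIso [IsIntegral S] {φ : C ⟶ S} {f : C' ⟶ C} [IsProper f] [Flat φ]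
    [LocallyOfFinitePresentation φ] (h1 : Flat (f ≫ φ)) (h2 : LocallyOfFinitePresentation (f ≫ φ))
    (h : SSMod.IsEtaIso φ f) : SSMod.IsModification f := by
  have h3 : LocallyOfFinitePresentation f :=
    Groth.Agent.Ega43.FPOfComp.locallyOfFinitePresentation_of_comp f φ
  exact K971.EtaNbhd.isModification_baseChange h (t := 𝟙 S) rfl
    (IsPullback.of_horiz_isIso ⟨by rw [Category.id_comp, Category.comp_id]⟩ :
      IsPullback (𝟙 C) φ φ (𝟙 S))
    (IsPullback.of_horiz_isIso ⟨by rw [Category.id_comp, Category.comp_id]⟩ : IsPullback (𝟙 C') f f (𝟙 C))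

theorem Pre.modification [IsIntegral S] {φ : C ⟶ S} {i : D ⟶ C} {i' : D' ⟶ C'} {f : C' ⟶ C}
    {fD : D' ⟶ D} (h : Pre φ i i' f fD) : SSMod.IsMPModification φ i i' f fD := by
  obtain ⟨hC, w, hC', hp, hpD, he, heD⟩ := h
  have a1 : Flat φ := hC.1
  have a2 : LocallyOfFinitePresentation φ := hC.2.1
  have a3 : Flat (i ≫ φ) := hC.2.2.2.2.2.2.1
  have a4 : LocallyOfFinitePresentation (i ≫ φ) := hC.2.2.2.2.2.2.2.1
  have e : i' ≫ f ≫ φ = fD ≫ i ≫ φ := by rw [← Category.assoc, w, Category.assoc]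
  exact ⟨w, hC', isModification_of_isEtaIso hC'.1 hC'.2.1 he,
    isModification_of_isEtaIso (e ▸ hC'.2.2.2.2.2.2.1) (e ▸ hC'.2.2.2.2.2.2.2.1) heD⟩

/-- The data of the locus. -/
theorem Pre.fpres [IsIntegral S] {φ : C ⟶ S} {i : D ⟶ C} {i' : D' ⟶ C'} {f : C' ⟶ C}
    {fD : D' ⟶ D} (h : Pre φ i i' f fD) : K342.Model.FPres (K342.Fib.dat φ i' f) := by
  obtain ⟨hC, w, hC', hp, hpD, he, heD⟩ := h
  have a1 : QuasiCompact (f ≫ φ) := hC'.2.2.1
  have a2 : QuasiSeparated (f ≫ φ) := hC'.2.2.2.1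
  have a3 : IsClosedImmersion i' := hC'.2.2.2.2.2.1
  exact ⟨hC.2.1, hC.2.2.1, hC.2.2.2.1, hC'.2.1, a1, a2, hC'.2.2.2.2.2.2.2.1,
    (inferInstance : QuasiCompact (i' ≫ f ≫ φ)), (inferInstance : QuasiSeparated (i' ≫ f ≫ φ))⟩

theorem Pre.stable_iff [IsIntegral S] {φ : C ⟶ S} {i : D ⟶ C} {i' : D' ⟶ C'} {f : C' ⟶ C}
    {fD : D' ⟶ D} (h : Pre φ i i' f fD) :
    SSMod.IsStableModification φ i i' f fD ↔ K342.Cons.E (K342.Fib.dat φ i' f) = Set.univ :=
  K342.StabE.isStableModification_iff φ i i' f fD h.modification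

/-- Base change. -/
theorem Pre.bc [IsIntegral S] [IsIntegral T] {φ : C ⟶ S} {i : D ⟶ C} {i' : D' ⟶ C'} {f : C' ⟶ C}
    {fD : D' ⟶ D} (h : Pre φ i i' f fD) {t : T ⟶ S} (ht : t (genericPoint T) = genericPoint S)
    {p : CT ⟶ C} {φT : CT ⟶ T} (sq : IsPullback p φT φ t) {pD : DT ⟶ D} {iT : DT ⟶ CT}
    (sqi : IsPullback pD iT i p) {p' : CT' ⟶ C'} {fT : CT' ⟶ CT} (sqC : IsPullback p' fT f p)
    {pD' : DT' ⟶ D'} {fDT : DT' ⟶ DT} (sqD : IsPullback pD' fDT fD pD)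
    (iT' : DT' ⟶ CT') (h1 : iT' ≫ p' = pD' ≫ i') (h2 : iT' ≫ fT = fDT ≫ iT) :
    Pre φT iT iT' fT fDT ∧ IsPullback pD' iT' i' p' := by
  obtain ⟨hC, w, hC', hp, hpD, he, heD⟩ := h
  have sqi' : IsPullback pD' iT' i' p' := by
    refine IsPullback.of_bot ?_ h1.symm sqC
    rw [h2, w]
    exact sqD.paste_vert sqi
  exact ⟨⟨K971.SSBaseChange.isMPCurve_of_isPullback hC sq sqi, h2,
    K971.SSBaseChange.isMPCurve_of_isPullback hC' (sqC.paste_vert sq) sqi',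
    MorphismProperty.of_isPullback sqC hp, MorphismProperty.of_isPullback sqD hpD,
    K971.SSBaseChange.isEtaIso_baseChange he ht sq.w sqC,
    K971.SSBaseChange.isEtaIso_baseChange heD ht (sqi.paste_vert sq).w sqD⟩, sqi'⟩

/-- Two base changes of `(C, D)` along the same morphism. -/
theorem has_of_has [IsIntegral T] {φ : C ⟶ S} {i : D ⟶ C} (hC : SSMod.IsMPCurve φ i) {g : T ⟶ S}
    {p : CT ⟶ C} {φT : CT ⟶ T} (sq : IsPullback p φT φ g) {pD : DT ⟶ D} {iT : DT ⟶ CT}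
    (sqi : IsPullback pD iT i p) (h : Has φT iT)
    {p' : CT' ⟶ C} {φT' : CT' ⟶ T} (sq' : IsPullback p' φT' φ g) {pD' : DT' ⟶ D} {iT' : DT' ⟶ CT'}
    (sqi' : IsPullback pD' iT' i p') : Has φT' iT' := by
  let e : CT' ⟶ CT := sq.lift p' φT' sq'.w
  have he1 : e ≫ p = p' := sq.lift_fst _ _ _
  have he2 : e ≫ φT = φT' := sq.lift_snd _ _ _
  let eD : DT' ⟶ DT := sqi.lift pD' (iT' ≫ e) (by rw [Category.assoc, he1, sqi'.w])
  have hD1 : eD ≫ pD = pD' := sqi.lift_fst _ _ _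
  have hD2 : eD ≫ iT = iT' ≫ e := sqi.lift_snd _ _ _
  have k1 : IsPullback e φT' φT (𝟙 T) := by
    refine IsPullback.of_right (h₁₂ := p) (h₂₂ := g) (v₁₃ := φ) ?_ ?_ sq
    · rw [he1, Category.id_comp]; exact sq'
    · rw [he2, Category.comp_id]
  have k2 : IsPullback eD iT' iT e := by
    refine IsPullback.of_right (h₁₂ := pD) (h₂₂ := p) (v₁₃ := i) ?_ hD2 sqi
    rw [hD1, he1]; exact sqi'
  exact Has.of_isPullback (K971.SSBaseChange.isMPCurve_of_isPullback hC sq sqi) h rfl k1 k2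

theorem rSol_of_has [IsIntegral T] {φ : C ⟶ S} {i : D ⟶ C} (hC : SSMod.IsMPCurve φ i) {g : T ⟶ S}
    {p : CT ⟶ C} {φT : CT ⟶ T} (sq : IsPullback p φT φ g) {pD : DT ⟶ D} {iT : DT ⟶ CT}
    (sqi : IsPullback pD iT i p) (h : Has φT iT) : RSol φ i T g :=
  ⟨inferInstance, has_of_has hC sq sqi h (IsPullback.of_hasPullback φ g)
    (K971.SSRestrict.isPullback_baseChangeOver i φ g)⟩

end Pre

section Stage

variable {I : Type u} [SmallCategory I] [IsCofiltered I]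
  (D : I ⥤ Scheme.{u}) (c : Cone D) (hc : IsLimit c) [∀ (i j : I) (f : i ⟶ j), IsAffineHom (D.map f)]
  [∀ j, IsIntegral (D.obj j)] [IsIntegral c.pt]

include hc in
/-- If the fibre conditions hold over the limit, they hold over some stage. -/
theorem exists_stage (hgen : ∀ j, c.π.app j (genericPoint c.pt) = genericPoint (D.obj j)) (j : I)
    [CompactSpace (D.obj j)] [QuasiSeparatedSpace (D.obj j)] {C₁ D₁ C₁' D₁' : Scheme.{u}}
    {φ : C₁ ⟶ D.obj j} {i : D₁ ⟶ C₁} {i' : D₁' ⟶ C₁'} {f : C₁' ⟶ C₁} {fD : D₁' ⟶ D₁}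
    (h : Pre φ i i' f fD) (hE : ∀ x : c.pt, c.π.app j x ∈ K342.Cons.E (K342.Fib.dat φ i' f)) :
    ∃ (k : I) (a : k ⟶ j), Has (pullback.snd φ (D.map a)) (CInt.baseChangeOver i φ (D.map a)) := by
  have hp := h.p
  have hcl : IsClosedImmersion i' := h.mp'.2.2.2.2.2.1
  obtain ⟨k, a, hk⟩ := K342.PreE.exists_stage_E D c hc j (K342.Fib.dat φ i' f) h.fpres hp hcl hE
  refine ⟨k, a, ?_⟩
  let t := D.map a
  have ht : t (genericPoint (D.obj k)) = genericPoint (D.obj j) := by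
    rw [← hgen k, ← hgen j, ← Scheme.Hom.comp_apply, c.w]
    rfl
  have sq := IsPullback.of_hasPullback φ t
  have sqi := K971.SSRestrict.isPullback_baseChangeOver i φ t
  have sqC := IsPullback.of_hasPullback f (pullback.fst φ t)
  have sqD := IsPullback.of_hasPullback fD (pullback.fst (i ≫ φ) t)
  have w : i' ≫ f = fD ≫ i := h.w
  let iT' : pullback fD (pullback.fst (i ≫ φ) t) ⟶ pullback f (pullback.fst φ t) :=
    pullback.lift (pullback.fst fD (pullback.fst (i ≫ φ) t) ≫ i')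
      (pullback.snd fD (pullback.fst (i ≫ φ) t) ≫ CInt.baseChangeOver i φ t) (by
      rw [Category.assoc, w, Category.assoc, ← sqi.w, pullback.condition_assoc])
  obtain ⟨h1, h2⟩ := h.bc ht sq sqi sqC sqD iT' (pullback.lift_fst _ _ _) (pullback.lift_snd _ _ _)
  let e : BC t (K342.Fib.dat (pullback.snd φ t) iT' (pullback.snd f (pullback.fst φ t)))
      (K342.Fib.dat φ i' f) := ⟨_, _, _, sq, sqC, h2⟩
  have h3 := K342.PreE.preimage_E e h.fpres hp hcl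
  have h4 : SSMod.IsStableModification (pullback.snd φ t) (CInt.baseChangeOver i φ t) iT'
      (pullback.snd f (pullback.fst φ t)) (pullback.snd fD (pullback.fst (i ≫ φ) t)) := by
    rw [h1.stable_iff, ← h3]
    exact Set.eq_univ_of_forall hk
  exact ⟨_, _, _, _, _, h4, h1.e, h1.eD⟩

end Stage

section Main

open Groth.Agent Groth.Agent.CalgA.LimFP Groth.Agent.Ega43.LimitDescend K115.MdlProp K971.Evt

variable {I : Type u} [SmallCategory I] [IsCofiltered I]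
  {D : I ⥤ Scheme.{u}} {c : Cone D} [∀ (i j : I) (f : i ⟶ j), IsAffineHom (D.map f)]
  [∀ i, CompactSpace (D.obj i)] [∀ i, QuasiSeparatedSpace (D.obj i)]
  {S : Scheme.{u}} (t : ∀ j, D.obj j ⟶ S) (ht : ∀ {i j : I} (φ : i ⟶ j), D.map φ ≫ t j = t i)
  (p : c.pt ⟶ S) (hp : ∀ j, c.π.app j ≫ t j = p)

/-- The model of the base change to the limit given by the base change to a stage. -/
noncomputable def stdMdl {X₀ : Scheme.{u}} (f₀ : X₀ ⟶ S) [LocallyOfFinitePresentation f₀] [QuasiCompact f₀]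
    [QuasiSeparated f₀] {X' : Scheme.{u}} (f' : X' ⟶ c.pt) (q : X' ⟶ X₀) (sq : IsPullback q f' f₀ p)
    (k : I) : Mdl f' k where
  A := pullback f₀ (t k)
  f := pullback.snd f₀ (t k)
  p := pullback.lift q (f' ≫ c.π.app k) (by rw [Category.assoc, hp, sq.w])
  h := by
    refine IsPullback.of_right (h₁₂ := pullback.fst f₀ (t k)) (h₂₂ := t k) (v₁₃ := f₀) ?_ ?_
      (IsPullback.of_hasPullback f₀ (t k))
    · rw [pullback.lift_fst, hp]; exact sq
    · rw [pullback.lift_snd]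
  lfp := inferInstance
  qc := inferInstance
  qs := inferInstance

theorem std_wp {T C₀ D₀ CT DT : Scheme.{u}} (φ₀ : C₀ ⟶ S) (i₀ : D₀ ⟶ C₀) (g : T ⟶ S)
    (A : DT ⟶ pullback (i₀ ≫ φ₀) g) (P : CT ⟶ pullback φ₀ g) (iT : DT ⟶ CT) (qD : DT ⟶ D₀) (q : CT ⟶ C₀)
    (r : CT ⟶ T) (h1 : A ≫ pullback.fst (i₀ ≫ φ₀) g = qD) (h2 : A ≫ pullback.snd (i₀ ≫ φ₀) g = iT ≫ r)
    (h3 : P ≫ pullback.fst φ₀ g = q) (h4 : P ≫ pullback.snd φ₀ g = r) (w : qD ≫ i₀ = iT ≫ q) :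
    A ≫ CInt.baseChangeOver i₀ φ₀ g = iT ≫ P := by
  apply pullback.hom_ext
  · rw [Category.assoc, K971.SSRestrict.baseChangeOver_fst, Category.assoc, h3, ← Category.assoc, h1, w]
  · rw [Category.assoc, K971.SSRestrict.baseChangeOver_snd, Category.assoc, h4, h2]

/-- The morphism of models given by the base change of a morphism over `S`. -/
noncomputable def stdHom {C₀ D₀ : Scheme.{u}} (φ₀ : C₀ ⟶ S) (i₀ : D₀ ⟶ C₀) [LocallyOfFinitePresentation φ₀]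
    [QuasiCompact φ₀] [QuasiSeparated φ₀] [LocallyOfFinitePresentation (i₀ ≫ φ₀)] [QuasiCompact (i₀ ≫ φ₀)]
    [QuasiSeparated (i₀ ≫ φ₀)] {CT DT : Scheme.{u}} (φT : CT ⟶ c.pt) (iT : DT ⟶ CT) (q : CT ⟶ C₀)
    (sq : IsPullback q φT φ₀ p) (qD : DT ⟶ D₀) (sqD : IsPullback qD (iT ≫ φT) (i₀ ≫ φ₀) p)
    (w : qD ≫ i₀ = iT ≫ q) (k : I) :
    Mdl.Hom iT (stdMdl t p hp (i₀ ≫ φ₀) (iT ≫ φT) qD sqD k) (stdMdl t p hp φ₀ φT q sq k) where
  φ := CInt.baseChangeOver i₀ φ₀ (t k)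
  w := K971.SSRestrict.baseChangeOver_snd i₀ φ₀ (t k)
  wp := std_wp φ₀ i₀ (t k) _ _ iT qD q (φT ≫ c.π.app k) (pullback.lift_fst _ _ _)
    ((pullback.lift_snd _ _ _).trans (Category.assoc _ _ _)) (pullback.lift_fst _ _ _)
    (pullback.lift_snd _ _ _) w
  w' := rfl

include ht hp in
/-- **Descent of solutions.** -/
theorem descend (hc : IsLimit c) [∀ j, IsIntegral (D.obj j)] [IsIntegral c.pt]
    (hgen : ∀ j, c.π.app j (genericPoint c.pt) = genericPoint (D.obj j))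
    {C₀ D₀ : Scheme.{u}} {φ₀ : C₀ ⟶ S} {i₀ : D₀ ⟶ C₀} (hC : SSMod.IsMPCurve φ₀ i₀)
    (h : RSol φ₀ i₀ c.pt p) : ∃ j, RSol φ₀ i₀ (D.obj j) (t j) := by
  obtain ⟨_, Cst, Dst, ist, fC, fD, hst, he, heD⟩ := h
  set φT := pullback.snd φ₀ p with hφT
  set iT := CInt.baseChangeOver i₀ φ₀ p with hiT
  have sC : IsPullback (pullback.fst φ₀ p) φT φ₀ p := IsPullback.of_hasPullback φ₀ p
  have sD : IsPullback (pullback.fst (i₀ ≫ φ₀) p) iT i₀ (pullback.fst φ₀ p) :=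
    K971.SSRestrict.isPullback_baseChangeOver i₀ φ₀ p
  have hCT : SSMod.IsMPCurve φT iT := isMPCurve_baseChange hC p
  have hpre : Pre φT iT ist fC fD := Pre.of_stable hCT hst he heD
  have w : ist ≫ fC = fD ≫ iT := hpre.w
  have hE : K342.Cons.E (K342.Fib.dat φT ist fC) = Set.univ := hpre.stable_iff.1 hst
  have a1 : LocallyOfFinitePresentation φ₀ := hC.2.1
  have a2 : QuasiCompact φ₀ := hC.2.2.1
  have a3 : QuasiSeparated φ₀ := hC.2.2.2.1
  have a4 : IsClosedImmersion i₀ := hC.2.2.2.2.2.1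
  have a5 : LocallyOfFinitePresentation (i₀ ≫ φ₀) := hC.2.2.2.2.2.2.2.1
  have b1 : LocallyOfFinitePresentation (fC ≫ φT) := hpre.mp'.2.1
  have b2 : QuasiCompact (fC ≫ φT) := hpre.mp'.2.2.1
  have b3 : QuasiSeparated (fC ≫ φT) := hpre.mp'.2.2.2.1
  have b4 : IsClosedImmersion ist := hpre.mp'.2.2.2.2.2.1
  have b5 : LocallyOfFinitePresentation (ist ≫ fC ≫ φT) := hpre.mp'.2.2.2.2.2.2.2.1
  obtain ⟨k, ⟨Ms⟩, ⟨MDs⟩⟩ := ((ev_mdl hc (fC ≫ φT)).and (ev_mdl hc (ist ≫ fC ≫ φT))).ex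
  let N : Mdl φT k := stdMdl t p hp φ₀ φT _ sC k
  let ND : Mdl (iT ≫ φT) k := stdMdl t p hp (i₀ ≫ φ₀) (iT ≫ φT) _ (sD.paste_vert sC) k
  let ui : Mdl.Hom iT ND N := stdHom t p hp φ₀ i₀ φT iT _ sC _ (sD.paste_vert sC) sD.w k
  obtain ⟨j, ⟨u⟩, ⟨v⟩, ⟨m⟩⟩ := ((ev_hom hc Ms N fC rfl).and ((ev_hom hc MDs Ms ist rfl).and
    (ev_hom hc MDs ND fD (by rw [← Category.assoc, ← w, Category.assoc])))).ex
  let ui1 := ui.bc j.hom
  let N1 := N.bc j.hom
  let ND1 := ND.bc j.hom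
  let Ms1 := Ms.bc j.hom
  let MDs1 := MDs.bc j.hom
  have hcl : DescendsLim @IsClosedImmersion.{u} :=
    Groth.Agent.Ega43.LimitDescendClosed.descendsLim_isClosedImmersion
  have hpr : DescendsLim @IsProper.{u} := K286.Desc.descendsLim_isProper
  have hfl : DescendsLim @Flat.{u} := Groth.Agent.Sga3.H515.LimSmooth.descendsLim_flat
  have e1 := ev_prop_hom u hc hpr hpre.p
  have e2 := ev_prop_hom v hc hcl b4
  have e3 := ev_prop_hom m hc hpr hpre.pD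
  have e4 := ev_eq (v.comp u) ((m.comp ui1).cast w.symm) hc
  have e5 := ev_prop_mdl hc hfl Ms1 hpre.mp'.1
  have e6 := ev_prop_mdl hc hfl MDs1 hpre.mp'.2.2.2.2.2.2.1
  have e7 := ev_prop_one hc (descendsOne_relDim 1) Ms1 ⟨inferInstance, hpre.mp'.2.2.2.2.1⟩
  have e8 := ev_prop_one hc (descendsOne_relDim 0) MDs1 ⟨inferInstance, hpre.mp'.2.2.2.2.2.2.2.2⟩
  obtain ⟨l, ⟨f1, f2, f3, f4⟩, f5, f6, f7, f8⟩ :=
    ((e1.and (e2.and (e3.and e4))).and (e5.and (e6.and (e7.and e8)))).ex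
  let N2 := N1.bc l.hom
  let ND2 := ND1.bc l.hom
  let Ms2 := Ms1.bc l.hom
  let MDs2 := MDs1.bc l.hom
  let u2 := u.bc l.hom
  let v2 := v.bc l.hom
  let m2 := m.bc l.hom
  let ui2 := ui1.bc l.hom
  -- the squares
  have hb : D.map l.hom ≫ D.map j.hom ≫ t k = t l.left := by rw [ht, ht]
  have sqN : IsPullback (pullback.fst N1.f (D.map l.hom) ≫ pullback.fst N.f (D.map j.hom) ≫
      pullback.fst φ₀ (t k)) N2.f φ₀ (t l.left) := by
    have := (IsPullback.of_hasPullback N1.f (D.map l.hom)).paste_horiz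
      ((IsPullback.of_hasPullback N.f (D.map j.hom)).paste_horiz (IsPullback.of_hasPullback φ₀ (t k)))
    rw [hb] at this
    exact this
  have sqND : IsPullback (pullback.fst ND1.f (D.map l.hom) ≫ pullback.fst ND.f (D.map j.hom) ≫
      pullback.fst (i₀ ≫ φ₀) (t k)) ui2.φ i₀ (pullback.fst N1.f (D.map l.hom) ≫
        pullback.fst N.f (D.map j.hom) ≫ pullback.fst φ₀ (t k)) :=
    (ui1.isPullback_bc l.hom).paste_horiz ((ui.isPullback_bc j.hom).paste_horiz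
      (K971.SSRestrict.isPullback_baseChangeOver i₀ φ₀ (t k)))
  have hmp : SSMod.IsMPCurve N2.f ui2.φ := K971.SSBaseChange.isMPCurve_of_isPullback hC sqN sqND
  have r1 : QuasiSeparated Ms2.f := Ms2.qs
  have r2 : QuasiCompact Ms2.f := Ms2.qc
  have hP : Pre N2.f ui2.φ v2.φ u2.φ m2.φ := by
    refine ⟨hmp, K971.Spread.comp_eq v u m ui1 w.symm l.hom f4, ?_, f1, f3, ?_, ?_⟩
    · refine ⟨?_, ?_, ?_, ?_, ?_, f2, ?_, ?_, ?_⟩
      · rw [u2.w]; exact f5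
      · rw [u2.w]; exact Ms2.lfp
      · rw [u2.w]; exact Ms2.qc
      · rw [u2.w]; exact Ms2.qs
      · rw [u2.w]; exact f7.2
      · rw [u2.w, v2.w]; exact f6
      · rw [u2.w, v2.w]; exact MDs2.lfp
      · rw [u2.w, v2.w]; exact f8.2
    · exact K264.Rfc.isIso_snd_descend (S₁ := c.pt) (c.π.app l.left) (hgen l.left) N2.f φT N2.p N2.h u2.φ fC Ms2.p
        u2.isPullback he
    · exact K264.Rfc.isIso_snd_descend (S₁ := c.pt) (c.π.app l.left) (hgen l.left) (ui2.φ ≫ N2.f) (iT ≫ φT) ND2.p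
        (ui2.isPullback.paste_vert N2.h) m2.φ fD MDs2.p m2.isPullback heD
  have hE2 : ∀ x : c.pt, c.π.app l.left x ∈ K342.Cons.E (K342.Fib.dat N2.f v2.φ u2.φ) := by
    let e : BC (c.π.app l.left) (K342.Fib.dat φT ist fC) (K342.Fib.dat N2.f v2.φ u2.φ) :=
      ⟨_, _, _, N2.h, u2.isPullback, v2.isPullback⟩
    have h3 := K342.PreE.preimage_E e hP.fpres hP.p f2
    rw [hE] at h3
    intro x
    exact Set.eq_univ_iff_forall.1 h3 x
  obtain ⟨n, a, hn⟩ := exists_stage D c hc hgen l.left hP hE2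
  have s1 := (IsPullback.of_hasPullback N2.f (D.map a)).paste_horiz sqN
  rw [ht] at s1
  have s2 := (K971.SSRestrict.isPullback_baseChangeOver ui2.φ N2.f (D.map a)).paste_horiz sqND
  exact ⟨n, rSol_of_has hC s1 s2 hn⟩

end Main

end K380.SolDesc
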